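import Groth.Agent.EssDim.K995.GenusField
import Groth.Agent.Flat2B.SmoothGeom
import Groth.Agent.S1535
import Groth.Agent.S1536

/-!
# Basic facts on curves of genus `g` over a field (`ModFun.IsCurveOfGenus g p`)
-/

set_option autoImplicit false
set_option linter.style.haveILetI false
universe u
open CategoryTheory CategoryTheory.Limits AlgebraicGeometry

namespace K995.CurveBasic

open GenusField

variable {k : Type u} [Field k] {C : Scheme.{u}} {p : C ⟶ Spec (CommRingCat.of k)} {g : ℕ}

theorem geometricallyIntegral (h : ModFun.IsCurveOfGenus g p) : GeometricallyIntegral p := by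
  have := h.1
  have := h.2.2.1
  exact Groth.Agent.Flat2B.SmoothGeom.geometricallyIntegral_of_smooth p

theorem isIntegral (h : ModFun.IsCurveOfGenus g p) : IsIntegral C := by
  have := geometricallyIntegral h
  exact GeometricallyIntegral.isIntegral_of_subsingleton p

theorem geometricallyConnected {X Y : Scheme.{u}} (f : X ⟶ Y) [hf : GeometricallyIrreducible f] :
    GeometricallyConnected f := by
  refine ⟨fun K _ y Z fst snd h => ?_⟩
  have := hf.geometrically_irreducibleSpace y fst snd h
  infer_instance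

theorem dim_eq_one (h : ModFun.IsCurveOfGenus g p) : topologicalKrullDim C = 1 :=
  ((isCurveOfGenus_iff p g).1 h).2.2.2.1

theorem h1_eq (h : ModFun.IsCurveOfGenus g p) :
    letI : C.Over (Spec (CommRingCat.of k)) := ⟨p⟩
    Module.finrank k (Coh.HH C (Coh.structureModule C) 1) = g :=
  ((isCurveOfGenus_iff p g).1 h).2.2.2.2

theorem h0_eq_one (h : ModFun.IsCurveOfGenus g p) :
    letI : C.Over (Spec (CommRingCat.of k)) := ⟨p⟩
    Module.finrank k (Coh.HH C (Coh.structureModule C) 0) = 1 := by
  letI : C.Over (Spec (CommRingCat.of k)) := ⟨p⟩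
  haveI : IsProper (C ↘ (Spec (CommRingCat.of k))) := h.2.1
  haveI : GeometricallyIntegral (C ↘ (Spec (CommRingCat.of k))) := geometricallyIntegral h
  haveI : GeometricallyConnected (C ↘ (Spec (CommRingCat.of k))) := geometricallyConnected _
  exact Groth.Agent.S1536.result k C

theorem isRegularLocalRing_stalk (h : ModFun.IsCurveOfGenus g p) (x : C) :
    IsRegularLocalRing (C.presheaf.stalk x) := by
  letI : C.Over (Spec (CommRingCat.of k)) := ⟨p⟩
  haveI : Smooth (C ↘ (Spec (CommRingCat.of k))) := h.1
  exact Groth.Agent.S1535.result k C x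

theorem isClosed_of_section [IsSeparated p] (σ : Spec (CommRingCat.of k) ⟶ C) (hσ : σ ≫ p = 𝟙 _) :
    IsClosed ({σ (IsLocalRing.closedPoint k)} : Set C) := by
  have : IsClosedImmersion (σ ≫ p) := by rw [hσ]; infer_instance
  have h1 : IsClosedImmersion σ := IsClosedImmersion.of_comp σ p
  have h2 := σ.isClosedEmbedding.isClosedMap {IsLocalRing.closedPoint k}
    (IsLocalRing.isClosed_singleton_closedPoint k)
  have h3 : (σ.base.hom : _ → C) '' {IsLocalRing.closedPoint k} = {σ (IsLocalRing.closedPoint k)} :=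
    Set.image_singleton
  exact h3 ▸ h2

theorem residue_of_section (σ : Spec (CommRingCat.of k) ⟶ C) (hσ : σ ≫ p = 𝟙 _)
    (c : C.presheaf.stalk (σ (IsLocalRing.closedPoint k))) :
    ∃ a : k, c - C.presheaf.germ ⊤ (σ (IsLocalRing.closedPoint k)) trivial (Coh.toGlobal p a) ∈
      IsLocalRing.maximalIdeal (C.presheaf.stalk (σ (IsLocalRing.closedPoint k))) := by
  let ψ := Scheme.stalkClosedPointTo σ
  have hloc : IsLocalHom ψ.hom := Scheme.isLocalHom_stalkClosedPointTo σ
  have key : ∀ a : k, ψ.hom (C.presheaf.germ ⊤ (σ (IsLocalRing.closedPoint k)) trivial (Coh.toGlobal p a)) = a := by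
    intro a
    have h1 := Scheme.germ_stalkClosedPointTo σ ⊤ trivial
    have h2 : (σ ≫ p).appTop = 𝟙 _ := by rw [hσ]; exact Scheme.Hom.id_appTop
    rw [Scheme.Hom.comp_appTop] at h2
    have h3 := congr($(h1).hom (Coh.toGlobal p a))
    have h4 : σ.appTop.hom (Coh.toGlobal p a) = (Scheme.ΓSpecIso (CommRingCat.of k)).inv.hom a := by
      have := congr($(h2).hom ((Scheme.ΓSpecIso (CommRingCat.of k)).inv.hom a))
      exact this
    have h5 : ((Spec (CommRingCat.of k)).presheaf.mapIso (eqToIso
        (Scheme.preimage_eq_top_of_closedPoint_mem σ (U := ⊤) trivial).symm).op ≪≫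
        Scheme.ΓSpecIso (CommRingCat.of k)).hom = (Scheme.ΓSpecIso (CommRingCat.of k)).hom := by
      rw [Iso.trans_hom]
      have : ((Spec (CommRingCat.of k)).presheaf.mapIso (eqToIso
        (Scheme.preimage_eq_top_of_closedPoint_mem σ (U := ⊤) trivial).symm).op).hom = 𝟙 _ :=
        (Spec (CommRingCat.of k)).presheaf.map_id _
      rw [this]
      exact Category.id_comp _
    rw [h5] at h3
    refine h3.trans ?_
    change (Scheme.ΓSpecIso (CommRingCat.of k)).hom.hom (σ.appTop.hom (Coh.toGlobal p a)) = a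
    rw [h4]
    exact congr($((Scheme.ΓSpecIso (CommRingCat.of k)).inv_hom_id).hom a)
  refine ⟨ψ.hom c, ?_⟩
  rw [IsLocalRing.mem_maximalIdeal, mem_nonunits_iff]
  intro hu
  have h1 := hu.map ψ.hom
  rw [map_sub, key, sub_self] at h1
  exact not_isUnit_zero h1

end K995.CurveBasic
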