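import Groth.Prelude.Def_ModFun
import Groth.Agent.S0223
import Groth.Agent.Etcore.DimBaseChange

/-!
# `ModFun.IsCurveOfGenus` over a field, and its descent along field extensions

Over the spectrum of a field `K`, being a curve of genus `g` is: smooth, proper, geometrically irreducible, of
dimension one, with `dim_K H¹(C, O_C) = g`.
-/

set_option autoImplicit false
universe u
open CategoryTheory CategoryTheory.Limits AlgebraicGeometry

namespace K995.GenusField

/-- Genus of a proper scheme over a field is invariant under field extension. -/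
theorem genus_eq_of_isPullback (k : Type u) [Field k] (X : Scheme.{u}) (p : X ⟶ Spec (CommRingCat.of k))
    [IsProper p] (k' : Type u) [Field k'] (φ : k →+* k') (X' : Scheme.{u})
    (p' : X' ⟶ Spec (CommRingCat.of k')) (g : X' ⟶ X)
    (h : IsPullback g p' p (Spec.map (CommRingCat.ofHom φ))) (i : ℕ) :
    (letI : X'.Over (Spec (CommRingCat.of k')) := ⟨p'⟩;
      Module.finrank k' (Coh.HH X' (Coh.structureModule X') i)) =
    (letI : X.Over (Spec (CommRingCat.of k)) := ⟨p⟩;
      Module.finrank k (Coh.HH X (Coh.structureModule X) i)) := by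
  letI : X'.Over (Spec (CommRingCat.of k')) := ⟨p'⟩
  letI : X.Over (Spec (CommRingCat.of k)) := ⟨p⟩
  haveI : IsProper (X ↘ Spec (CommRingCat.of k)) := ‹IsProper p›
  letI := φ.toAlgebra
  exact Groth.Agent.S0223.finrank_eq k X k' X' g h i

/-- Dimension of a scheme locally of finite type over a field is invariant under field extension. -/
theorem dim_eq_of_isPullback {k k' : Type u} [Field k] [Field k'] {X X' : Scheme.{u}}
    {p : X ⟶ Spec (CommRingCat.of k)} [LocallyOfFiniteType p]
    {s : Spec (CommRingCat.of k') ⟶ Spec (CommRingCat.of k)}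
    {p' : X' ⟶ Spec (CommRingCat.of k')} {g : X' ⟶ X}
    (h : IsPullback g p' p s) :
    topologicalKrullDim X' = topologicalKrullDim X :=
  Groth.Agent.Etcore.DimBaseChange.topologicalKrullDim_eq (Field.toIsField k) (Field.toIsField k')
    p p' g s h

/-- Being a curve of genus `g` over a field, in terms of the curve itself. -/
theorem isCurveOfGenus_iff {k : Type u} [Field k] {C : Scheme.{u}} (p : C ⟶ Spec (CommRingCat.of k))
    (g : ℕ) :
    ModFun.IsCurveOfGenus g p ↔ Smooth p ∧ IsProper p ∧ GeometricallyIrreducible p ∧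
      topologicalKrullDim C = 1 ∧
        (letI : C.Over (Spec (CommRingCat.of k)) := ⟨p⟩; Curv2.genus k C = g) := by
  constructor
  · rintro ⟨h1, h2, h3, h4⟩
    refine ⟨h1, h2, h3, ?_⟩
    let t : Spec (CommRingCat.of (AlgebraicClosure k)) ⟶ Spec (CommRingCat.of k) :=
      Spec.map (CommRingCat.ofHom (algebraMap k (AlgebraicClosure k)))
    obtain ⟨h5, h6⟩ := h4 (AlgebraicClosure k) t (pullback p t) (pullback.fst p t) (pullback.snd p t)
      (IsPullback.of_hasPullback p t)
    refine ⟨(dim_eq_of_isPullback (IsPullback.of_hasPullback p t)).symm.trans h5, ?_⟩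
    exact (genus_eq_of_isPullback k C p (AlgebraicClosure k) _ _ _ _
      (IsPullback.of_hasPullback p t) 1).symm.trans h6
  · rintro ⟨h1, h2, h3, h4, h5⟩
    refine ⟨h1, h2, h3, fun Ω _ _ t X i q hX => ⟨(dim_eq_of_isPullback hX).trans h4, ?_⟩⟩
    obtain ⟨φ, rfl⟩ : ∃ φ, t = Spec.map φ := ⟨_, (Spec.map_preimage t).symm⟩
    exact (genus_eq_of_isPullback k C p Ω φ.hom X q i hX 1).trans h5

/-- Stability of `IsCurveOfGenus` under arbitrary base change. -/
theorem isCurveOfGenus_of_isPullback {g : ℕ} {C T C' T' : Scheme.{u}} {p : C ⟶ T} {p' : C' ⟶ T'}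
    {a : C' ⟶ C} {b : T' ⟶ T} (h : IsPullback a p' p b) (hp : ModFun.IsCurveOfGenus g p) :
    ModFun.IsCurveOfGenus g p' := by
  obtain ⟨h1, h2, h3, h4⟩ := hp
  refine ⟨MorphismProperty.of_isPullback h h1, MorphismProperty.of_isPullback h h2,
    MorphismProperty.of_isPullback h h3, fun Ω _ _ t X i q hX => ?_⟩
  exact h4 Ω (t ≫ b) X (i ≫ a) q (hX.paste_horiz h)

/-- Descent of `IsCurveOfGenus` along a field extension. -/
theorem isCurveOfGenus_descend {g : ℕ} {k k' : Type u} [Field k] [Field k'] {C C' : Scheme.{u}}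
    {p : C ⟶ Spec (CommRingCat.of k)}
    {s : Spec (CommRingCat.of k') ⟶ Spec (CommRingCat.of k)}
    {p' : C' ⟶ Spec (CommRingCat.of k')} {a : C' ⟶ C}
    (h : IsPullback a p' p s) (h1 : Smooth p) (h2 : IsProper p) (h3 : GeometricallyIrreducible p)
    (h' : ModFun.IsCurveOfGenus g p') : ModFun.IsCurveOfGenus g p := by
  rw [isCurveOfGenus_iff] at h' ⊢
  obtain ⟨φ, rfl⟩ : ∃ φ, s = Spec.map φ := ⟨_, (Spec.map_preimage s).symm⟩
  refine ⟨h1, h2, h3, (dim_eq_of_isPullback h).symm.trans h'.2.2.2.1, ?_⟩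
  exact (genus_eq_of_isPullback k C p k' φ.hom C' p' a h 1).symm.trans h'.2.2.2.2

end K995.GenusField
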