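import Groth.Agent.EssDim.K995.CurveBasic
import Groth.Agent.Models.H55.Recog

/-!
# A curve of genus zero over a field with a rational point is a projective line
-/

set_option autoImplicit false
set_option linter.style.haveILetI false
universe u
open CategoryTheory CategoryTheory.Limits AlgebraicGeometry

namespace K995.GenusZeroPt

open CurveBasic

theorem exists_iso_P1 {k : Type u} [Field k] {C : Scheme.{u}} {p : C ⟶ Spec (CommRingCat.of k)}
    (h : ModFun.IsCurveOfGenus 0 p) (σ : Spec (CommRingCat.of k) ⟶ C) (hσ : σ ≫ p = 𝟙 _) :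
    ∃ e : C ≅ CohB1.ProjSpace 1 k, e.hom ≫ CohB1.ProjSpace.toSpec 1 k = p := by
  letI : C.Over (Spec (CommRingCat.of k)) := ⟨p⟩
  haveI : IsProper (C ↘ Spec (CommRingCat.of k)) := h.2.1
  haveI := h.2.1
  haveI := isIntegral h
  exact Groth.Agent.Models.H55.Recog.exists_iso_of_point k C (dim_eq_one h) (h0_eq_one h) (h1_eq h)
    (σ (IsLocalRing.closedPoint k)) (isClosed_of_section σ hσ) (isRegularLocalRing_stalk h _)
    (residue_of_section σ hσ)

end K995.GenusZeroPt
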