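import Groth.Agent.EssDim.K995.CurveBasic
import Groth.Agent.Sga5.ProjSmooth
import Groth.Agent.Dix.ProjProper
import Groth.Agent.Sga4h.H912.P1Irr
import Groth.Agent.Dix.EtMinF
import Groth.Agent.CohqB.ProjBC
import Groth.Agent.S0023

/-!
# The projective line over a field is a curve of genus zero
-/

set_option autoImplicit false
set_option linter.style.haveILetI false
universe u
open CategoryTheory CategoryTheory.Limits AlgebraicGeometry

namespace K995.P1Curve

open CurveBasic GenusField

theorem geometricallyIrreducible_toSpec (n : ℕ) (k : Type u) [Field k] :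
    GeometricallyIrreducible (CohB1.ProjSpace.toSpec n k) := by
  refine ⟨fun K _ y Z fst snd h => ?_⟩
  obtain ⟨φ, rfl⟩ : ∃ φ, y = Spec.map φ := ⟨_, (Spec.map_preimage y).symm⟩
  have h1 := Groth.Agent.CohqB.ProjBC.isPullback_pmap φ.hom n
  let e : Z ≅ CohB1.ProjSpace n K := h.isoIsPullback _ _ h1
  haveI := Groth.Agent.Sga4h.H912.P1Irr.irreducibleSpace_projSpace (n := n) (A := K)
  exact Function.Surjective.irreducibleSpace (Scheme.homeoOfIso e.symm).continuous
    (Scheme.homeoOfIso e.symm).surjective

theorem isCurveOfGenus (k : Type u) [Field k] : ModFun.IsCurveOfGenus 0 (CohB1.ProjSpace.toSpec 1 k) := by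
  rw [isCurveOfGenus_iff]
  refine ⟨SmoothOfRelativeDimension.smooth 1 _, inferInstance, geometricallyIrreducible_toSpec 1 k,
    Groth.Agent.Dix.EtMinF.topologicalKrullDim_P1 k, ?_⟩
  have h1 := Groth.Agent.S0023.result 1 k 1 one_pos
  letI : (CohB1.ProjSpace 1 k).Over (Spec (CommRingCat.of k)) := ⟨CohB1.ProjSpace.toSpec 1 k⟩
  exact Module.finrank_zero_of_subsingleton

end K995.P1Curve
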