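import Groth.Agent.EssDim.K995.DiagForm
import Groth.Agent.EssDim.K995.CurveBasic
import Groth.Agent.Dix.ProjProper
import Groth.Agent.Lefpen.H716.CIGeom
import Groth.Agent.Models.H55.Recog

/-!
# Diagonal conics as curves: geometry and recognition

* `geometricallyIrreducible`, `isProper`, `smooth`: the conic `∑ w_i X_i ^ 2 = 0` with nonzero `w_i`, `2 ≠ 0`.
* `isPullback`: base change.
* `exists_iso`: a curve with a closed immersion into the plane on which the form vanishes is the conic.
-/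

set_option autoImplicit false
set_option linter.style.haveILetI false
universe u
open CategoryTheory CategoryTheory.Limits AlgebraicGeometry TopologicalSpace Opposite

namespace K995.ConicCurve

open Groth.Agent.Lefpen.H718.Chart Groth.Agent.CohqB.ProjBC Groth.Agent.Lefpen.H21
open ConicSec ConicEmb DiagForm

variable {k : Type u} [Field k]

/-- The diagonal conic. -/
noncomputable abbrev Q (w : Fin 3 → k) : Scheme.{u} := Y (a := fun _ : Fin 1 => 2) (DiagForm.G w)

noncomputable abbrev qStr (w : Fin 3 → k) : Q w ⟶ Spec (CommRingCat.of k) :=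
  yStr (a := fun _ : Fin 1 => 2) (DiagForm.G w)

theorem mapForm_diagForm {K : Type u} [Field K] (φ : k →+* K) (w : Fin 3 → k) :
    CiBase.mapForm φ (diagForm w) = diagForm (fun i => φ (w i)) := by
  refine Subtype.ext ?_
  rw [CiBase.mapForm_val, diagForm_val, diagForm_val, map_sum]
  refine Finset.sum_congr rfl fun i _ => ?_
  rw [map_mul, map_pow, MvPolynomial.map_C, MvPolynomial.map_X]

theorem exists_isPullback {K : Type u} [Field K] (φ : k →+* K) (w : Fin 3 → k) :
    ∃ a : Q (fun i => φ (w i)) ⟶ Q w,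
      IsPullback a (qStr fun i => φ (w i)) (qStr w) (Spec.map (CommRingCat.ofHom φ)) :=
  ⟨_, CiBase.isPullback_ciMap_toSpec φ (a := fun _ : Fin 1 => 2) (DiagForm.G w)
    (DiagForm.G fun i => φ (w i)) fun _ => (mapForm_diagForm φ w).symm⟩

theorem geometricallyIrreducible (h2 : (2 : k) ≠ 0) (w : Fin 3 → k) (hw : ∀ i, w i ≠ 0) :
    GeometricallyIrreducible (qStr w) := by
  refine ⟨fun K _ y Z fst snd h => ?_⟩
  obtain ⟨φ, rfl⟩ : ∃ φ, y = Spec.map φ := ⟨_, (Spec.map_preimage y).symm⟩
  obtain ⟨a, h1⟩ := exists_isPullback φ.hom w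
  let e : Z ≅ Q (fun i => φ.hom (w i)) := h.isoIsPullback _ _ h1
  have h2K : (2 : K) ≠ 0 := by
    have h := (map_ne_zero φ.hom).2 h2
    rwa [map_ofNat] at h
  haveI := isIntegral_Y h2K (fun i => φ.hom (w i)) (fun i => (map_ne_zero φ.hom).2 (hw i))
  exact Function.Surjective.irreducibleSpace (Scheme.homeoOfIso e.symm).continuous
    (Scheme.homeoOfIso e.symm).surjective

theorem smooth (h2 : (2 : k) ≠ 0) (w : Fin 3 → k) (hw : ∀ i, w i ≠ 0) : Smooth (qStr w) := by
  haveI := smooth_yStr h2 w hw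
  exact SmoothOfRelativeDimension.smooth 1 _

theorem isProper (w : Fin 3 → k) : IsProper (qStr w) := inferInstance

theorem dim_le_one (h2 : (2 : k) ≠ 0) (w : Fin 3 → k) (hw : ∀ i, w i ≠ 0) :
    topologicalKrullDim (Q w) ≤ 1 := by
  haveI := smooth_yStr h2 w hw
  exact Groth.Agent.Lefpen.H716.CIGeom.topologicalKrullDim_le_of_smooth 1 (qStr w)

/-- A one-dimensional closed subscheme of the plane on which the form vanishes is the conic. -/
theorem exists_iso (h2 : (2 : k) ≠ 0) (w : Fin 3 → k) (hw : ∀ i, w i ≠ 0) {X : Scheme.{u}} [IsIntegral X]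
    (hdim : topologicalKrullDim X = 1) (i : X ⟶ CohB1.ProjSpace 2 k) [IsClosedImmersion i]
    (h : ∀ j, (i.app (LefPen.chart 2 k j)).hom (LefPen.dehom (diagForm w) j) = 0) :
    ∃ e : X ≅ Q w, e.hom ≫ qStr w = i ≫ CohB1.ProjSpace.toSpec 2 k := by
  have h1 : LefPen.ciIdeal (a := fun _ : Fin 1 => 2) (DiagForm.G w) ≤ i.ker :=
    iSup_le fun _ => hypIdeal_le_ker (diagForm w) i h
  have h1' : (yι (a := fun _ : Fin 1 => 2) (DiagForm.G w)).ker ≤ i.ker := by
    rw [Scheme.IdealSheafData.ker_subschemeι]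
    exact h1
  let j : X ⟶ Q w := IsClosedImmersion.lift (yι (a := fun _ : Fin 1 => 2) (DiagForm.G w)) i h1'
  have hj : j ≫ yι (a := fun _ : Fin 1 => 2) (DiagForm.G w) = i := IsClosedImmersion.lift_fac _ _ _
  haveI : IsClosedImmersion (j ≫ yι (a := fun _ : Fin 1 => 2) (DiagForm.G w)) := by rw [hj]; infer_instance
  haveI : IsClosedImmersion j := IsClosedImmersion.of_comp _ (yι (a := fun _ : Fin 1 => 2) (DiagForm.G w))
  haveI := isIntegral_Y h2 w hw
  haveI : Surjective j := ⟨Groth.Agent.Dix.VertGeom.surjective_of_dim j j.isClosedEmbedding.isInducing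
    j.isClosedEmbedding.isClosed_range hdim.ge (dim_le_one h2 w hw)⟩
  have hiso : IsIso j := isIso_of_isClosedImmersion_of_surjective j
  refine ⟨asIso j, ?_⟩
  rw [asIso_hom, ← hj, Category.assoc]

end K995.ConicCurve
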