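import Groth.Agent.EssDim.K995.ConicSec
import Groth.Agent.CurvesC.VeryAmple
import Groth.Agent.Lefpen.H705.SecIdeal

/-!
# Closed immersions by complete linear systems and the forms vanishing on the image
-/

set_option autoImplicit false
set_option linter.style.haveILetI false
universe u
open CategoryTheory CategoryTheory.Limits AlgebraicGeometry TopologicalSpace Opposite

namespace K995.ConicEmb

open Groth.Agent Groth.Agent.CurvesC Groth.Agent.CurvesC.Gen Groth.Agent.CurvesC.GenPt Groth.Agent.CurvesB.HZero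
open Groth.Agent.CurvesC.ProjMap Groth.Agent.CurvesC.ProjSpaceBasic Groth.Agent.CurvesC.ToProj
open Groth.Agent.CurvesC.VeryAmple Groth.Agent.Lefpen.H705.HypIdeal
open Groth.Agent.Fdesc.LocGen (tmul)
open ConicSec

section forms

variable {k : Type u} [Field k] {X : Scheme.{u}} {n : ℕ} {g : X ⟶ Spec (CommRingCat.of k)} {L : X.Modules}
  {s : Fin (n + 1) → (Coh.structureModule X ⟶ L)} {φ : X ⟶ CohB1.ProjSpace n k}

/-- The value of a dehomogenized form on the morphism given by sections. -/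
theorem appLE_dehom (h : IsMapOf g L s φ) {d : ℕ} (G : LefPen.Form n k d) {i : Fin (n + 1)}
    (hi : CohB1.genLocus L (s i) ≤ φ ⁻¹ᵁ LefPen.chart n k i) :
    (φ.appLE (LefPen.chart n k i) (CohB1.genLocus L (s i)) hi).hom (LefPen.dehom G i) = locHom g L s i G.1 := by
  have h1 := appLE_awayToSection (CohB1.polyGrading n k) (locHom g L s i) (X_mem n k i) one_pos
    (isUnit_locHom g L s i) φ (h i) hi
  have h2 := congr($h1 (HomogeneousLocalization.Away.mk _ (X_mem n k i) d G.1
    (by rw [smul_eq_mul, mul_one]; exact G.2)))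
  refine h2.trans ?_
  apply awayLift_mk_eq
  rw [locHom_X, rat_self, one_pow, one_mul]

/-- A form whose dehomogenizations vanish on a scheme over `P^n` has ideal contained in the kernel. -/
theorem hypIdeal_le_ker {d : ℕ} (G : LefPen.Form n k d) (φ : X ⟶ CohB1.ProjSpace n k)
    (h : ∀ i, (φ.app (LefPen.chart n k i)).hom (LefPen.dehom G i) = 0) : LefPen.hypIdeal G ≤ φ.ker := by
  rw [Scheme.Hom.ker, Scheme.IdealSheafData.le_ofIdeals_iff]
  intro U s hs
  have hs' := Scheme.IdealSheafData.ideal_ofIdeals_le (LefPen.hypFamily G) U hs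
  rw [RingHom.mem_ker]
  apply function_ext (X := X) (W := φ ⁻¹ᵁ U.1) (fun j : Fin (n + 1) => φ ⁻¹ᵁ (U.1 ⊓ LefPen.chart n k j))
    (fun j => φ.preimage_mono inf_le_left)
  · intro x hx
    have h1 : φ x ∈ (⨆ j : Fin (n + 1), LefPen.chart n k j) := by
      rw [iSup_chart]; trivial
    obtain ⟨j, hj⟩ := Opens.mem_iSup.1 h1
    exact Opens.mem_iSup.2 ⟨j, hx, hj⟩
  intro j
  rw [map_zero]
  have hs2 := (iInf_le _ j : LefPen.hypFamily G U ≤ _) hs'
  rw [Ideal.mem_comap, Ideal.mem_span_singleton'] at hs2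
  obtain ⟨b, hb⟩ := hs2
  have h1 : X.presheaf.map (homOfLE (φ.preimage_mono (inf_le_left : U.1 ⊓ LefPen.chart n k j ≤ U.1))).op
      ((φ.app U.1).hom s) = (φ.app (U.1 ⊓ LefPen.chart n k j)).hom
        (((CohB1.ProjSpace n k).presheaf.map
          (homOfLE (inf_le_left : U.1 ⊓ LefPen.chart n k j ≤ U.1)).op).hom s) :=
    (PullIso.app_map φ _ _).symm
  have h2 : (φ.app (U.1 ⊓ LefPen.chart n k j)).hom
        (((CohB1.ProjSpace n k).presheaf.map
          (homOfLE (inf_le_right : U.1 ⊓ LefPen.chart n k j ≤ LefPen.chart n k j)).op).hom (LefPen.dehom G j)) = 0 := by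
    refine (PullIso.app_map φ _ _).trans ?_
    refine (congrArg _ (h j)).trans (map_zero _)
  refine h1.trans ?_
  rw [← hb, map_mul, h2, mul_zero]

end forms

variable {k : Type u} [Field k] {X : Scheme.{u}} [X.Over (Spec (CommRingCat.of k))]

/-- Spanning sections of an invertible module on a curve with `H^1(X, O_X) = 0` and `Γ(X, O_X) = k` give a closed
immersion in projective space, as soon as none of them generates everywhere. -/
theorem exists_closedImmersion [IsIntegral X] [IsProper (X ↘ (Spec (CommRingCat.of k)))] [IsNoetherian X]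
    (hdim : topologicalKrullDim X ≤ 1) (h1 : Subsingleton (Coh.HH X (Coh.structureModule X) 1))
    (hconst : ∀ a : Γ(X, ⊤), ∃ c : k, gl k X c = a) {L : X.Modules} (hL : PicF.IsInvertible L) {n : ℕ}
    (σ : Fin (n + 1) → Γ(L, ⊤)) (hspan : ∀ r : Γ(L, ⊤), ∃ c : Fin (n + 1) → k, r = ∑ j, gl k X (c j) • σ j)
    (hσ : ∀ i, σ i ≠ 0) (hne : ∀ i, loc (σ i) ≠ ⊤) :
    ∃ i : X ⟶ CohB1.ProjSpace n k, IsClosedImmersion i ∧
      i ≫ CohB1.ProjSpace.toSpec n k = X ↘ (Spec (CommRingCat.of k)) ∧
      (∀ j, i ⁻¹ᵁ LefPen.chart n k j = loc (σ j)) ∧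
      IsMapOf (X ↘ (Spec (CommRingCat.of k))) L (fun j => ofSec (σ j)) i := by
  let g := X ↘ (Spec (CommRingCat.of k))
  let s : Fin (n + 1) → (Coh.structureModule X ⟶ L) := fun i => ofSec (σ i)
  have hcompl : ∀ i, ∃ t : Γ(L, ⊤), loc (σ i) ⊔ loc t = ⊤ := fun i => exists_complement hdim h1 hL (hσ i)
  have hs : ⨆ i, CohB1.genLocus L (s i) = ⊤ := by
    rw [eq_top_iff]
    intro x _
    by_contra hx
    have hx' : ∀ i, σ i ∈ nonGen hL x := fun i hi => hx (Opens.mem_iSup.2 ⟨i, hi⟩)
    obtain ⟨t, ht⟩ := hcompl 0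
    have hxt : x ∈ loc (σ 0) ⊔ loc t := ht ▸ trivial
    rcases hxt with h | h
    · exact hx' 0 h
    · obtain ⟨c, rfl⟩ := hspan t
      exact Submodule.sum_mem (nonGen hL x) (fun j _ => Submodule.smul_mem _ (gl k X (c j)) (hx' j)) h
  obtain ⟨φ, hφ, hφg, hpre, -, e, -⟩ := exists_morphism g L s hs
  have hprop : IsProper φ := by
    have : IsProper (φ ≫ CohB1.ProjSpace.toSpec n k) := hφg ▸ (inferInstance : IsProper g)
    exact IsProper.of_comp φ (CohB1.ProjSpace.toSpec n k)
  have hfin : IsFinite φ := FinMap.isFinite_of_cover φ hdim (Dp n k) (iSup_Dp n k)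
    (fun i h => hne i ((hpre i).symm.trans h))
  refine ⟨φ, ?_, hφg, hpre, hφ⟩
  refine ProjClosed.isClosedImmersion_of_forall hφ hs ?_ ?_
  · intro i
    rw [← hpre i]
    exact (isAffineOpen_Dp n k i).preimage φ
  · intro i a
    obtain ⟨t, ht⟩ := hcompl i
    have hmem := RatGen.mem_of_complement h1 (σ i) t ht (NoetherianSpace.isCompact _) (by
        exact IsQuasiSeparated.of_quasiSeparatedSpace _) (locHom g L s i).range ?_ ?_ a
    · exact hmem
    · intro c
      obtain ⟨c, rfl⟩ := hconst c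
      exact ⟨MvPolynomial.C c, locHom_C g L s i c⟩
    · intro r b hb
      obtain ⟨c, rfl⟩ := hspan r
      refine ⟨∑ j, MvPolynomial.C (c j) * MvPolynomial.X j, ?_⟩
      have hgen : IsGen L (CohB1.genLocus L (s i)) (sec (s i) _) := isGen_genLocus (s i)
      apply hgen.injective
      rw [map_sum, Finset.sum_smul, sec_ofSec]
      refine Eq.trans ?_ hb.symm
      rw [map_sum]
      apply Finset.sum_congr rfl
      intro j _
      rw [map_mul, locHom_C, locHom_X, mul_smul, map_smul_section, ← sec_ofSec, rat_smul, struct_eq, sec_ofSec]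

end K995.ConicEmb
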