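import Groth.Prelude.Def_EssDim
import Groth.Prelude.Def_StCurv

/-!
# Bounding the essential dimension of `CurvSt.Mgn`
-/

set_option autoImplicit false
universe u
open CategoryTheory CategoryTheory.Limits AlgebraicGeometry

namespace K995.MgnDesc

variable {k : Type u} [Field k] {g n : ℕ}

/-- The smooth `n`-pointed curve `(f : C ⟶ Spec L, s)` of genus `g` comes from an intermediate field of transcendence
degree at most `d`. -/
def DescLE (k : Type u) [Field k] (g n : ℕ) (d : ℕ∞) {L : Type u} [Field L] [Algebra k L] {C : Scheme.{u}}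
    (f : C ⟶ Spec (CommRingCat.of L)) (s : Fin n → (Spec (CommRingCat.of L) ⟶ C)) : Prop :=
  ∃ (K : IntermediateField k L) (C₀ : Scheme.{u}) (f₀ : C₀ ⟶ Spec (CommRingCat.of K))
    (s₀ : Fin n → (Spec (CommRingCat.of K) ⟶ C₀)) (a : C ⟶ C₀),
    Cardinal.toENat (Algebra.trdeg k K) ≤ d ∧ (∀ i, s₀ i ≫ f₀ = 𝟙 _) ∧ CurvSt.IsSmoothPtdFam f₀ s₀ g ∧
      IsPullback a f f₀ (Spec.map (CommRingCat.ofHom (algebraMap K L))) ∧
        ∀ i, s i ≫ a = Spec.map (CommRingCat.ofHom (algebraMap K L)) ≫ s₀ i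

theorem edStAt_le [FibCat.IsFibGrpd (CurvSt.Mgn (Spec (CommRingCat.of k)) g n).p] {d : ℕ∞}
    {L : Type u} [Field L] [Algebra k L]
    (H : ∀ (C : Scheme.{u}) (f : C ⟶ Spec (CommRingCat.of L)) (s : Fin n → (Spec (CommRingCat.of L) ⟶ C)),
      (∀ i, s i ≫ f = 𝟙 _) → CurvSt.IsSmoothPtdFam f s g → DescLE k g n d f s)
    (x : StkCnt.pts (CurvSt.Mgn (Spec (CommRingCat.of k)) g n) L) :
    EssDim.edStAt (CurvSt.Mgn (Spec (CommRingCat.of k)) g n) x ≤ d := by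
  obtain ⟨⟨⟨base, C, f, s, hs⟩, hA⟩, h⟩ := x
  have h' : base = SGA7.pt (K := k) L := h
  subst h'
  obtain ⟨K, C₀, f₀, s₀, a, hd, hs₀, h₀, hpb, hsa⟩ := H C f s hs hA
  refine le_trans ?_ hd
  refine EssDim.edAt_le_of_descends ?_
  refine (EssDim.descends_isoCl_iff (CurvSt.Mgn (Spec (CommRingCat.of k)) g n) (L := L) _ K).2 ?_
  let A₀ : CurvSt.PtFamObj (Spec (CommRingCat.of k)) n := ⟨SGA7.pt (K := k) K, C₀, f₀, s₀, hs₀⟩
  let A : CurvSt.PtFamObj (Spec (CommRingCat.of k)) n := ⟨SGA7.pt (K := k) L, C, f, s, hs⟩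
  let φ : A ⟶ A₀ := CurvSt.PtFamObj.Hom.mk (A := A) (B := A₀) (EssDim.resPt K.val) a hpb hsa
  let X : (CurvSt.Mgn (Spec (CommRingCat.of k)) g n).obj := ⟨A, hA⟩
  let X₀ : (CurvSt.Mgn (Spec (CommRingCat.of k)) g n).obj := ⟨A₀, h₀⟩
  let Φ : X ⟶ X₀ := ObjectProperty.homMk φ
  refine ⟨⟨X₀, rfl⟩, Φ, ?_⟩
  exact IsHomLift.map (CurvSt.Mgn (Spec (CommRingCat.of k)) g n).p Φ

theorem edSt_le [FibCat.IsFibGrpd (CurvSt.Mgn (Spec (CommRingCat.of k)) g n).p] {d : ℕ∞}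
    (H : ∀ (L : Type u) [Field L] [Algebra k L] (C : Scheme.{u}) (f : C ⟶ Spec (CommRingCat.of L))
      (s : Fin n → (Spec (CommRingCat.of L) ⟶ C)),
      (∀ i, s i ≫ f = 𝟙 _) → CurvSt.IsSmoothPtdFam f s g → DescLE k g n d f s) :
    EssDim.edSt (CurvSt.Mgn (Spec (CommRingCat.of k)) g n) ≤ (d : WithBot ℕ∞) := by
  refine iSup_le fun L => iSup_le fun _ => iSup_le fun _ => iSup_le fun ξ => ?_
  induction ξ using Quot.ind with
  | mk x => exact WithBot.coe_le_coe.2 (edStAt_le (H L) x)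

theorem edSt_nonneg [FibCat.IsFibGrpd (CurvSt.Mgn (Spec (CommRingCat.of k)) g n).p]
    {C : Scheme.{u}} (f : C ⟶ Spec (CommRingCat.of k)) (s : Fin n → (Spec (CommRingCat.of k) ⟶ C))
    (hs : ∀ i, s i ≫ f = 𝟙 _) (h : CurvSt.IsSmoothPtdFam f s g) :
    (0 : WithBot ℕ∞) ≤ EssDim.edSt (CurvSt.Mgn (Spec (CommRingCat.of k)) g n) := by
  let A : CurvSt.PtFamObj (Spec (CommRingCat.of k)) n := ⟨SGA7.pt (K := k) k, C, f, s, hs⟩
  let x : StkCnt.pts (CurvSt.Mgn (Spec (CommRingCat.of k)) g n) k := ⟨⟨A, h⟩, rfl⟩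
  refine le_trans ?_ (EssDim.edAt_le_ed
    (P := Gerb.isoClPsh (CurvSt.Mgn (Spec (CommRingCat.of k)) g n)) (L := k) (Quot.mk _ x))
  exact WithBot.coe_le_coe.2 zero_le

end K995.MgnDesc
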