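import Groth.Agent.EssDim.K995.ConicCurve
import Groth.Agent.Models.H57.ConicPoint
import Groth.Agent.Old.H24.LinearSeries
import Groth.Agent.S1635
import Groth.Agent.S2821
import Groth.Agent.EssDim.K995.MgnDesc
import Groth.Agent.An.H548.TrdegCore

/-!
# Curves of genus zero are diagonal conics (characteristic not two)
-/

set_option autoImplicit false
set_option linter.style.haveILetI false
universe u
open CategoryTheory CategoryTheory.Limits AlgebraicGeometry TopologicalSpace Opposite

namespace K995.ConicModel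

open Groth.Agent Groth.Agent.CurvesC Groth.Agent.CurvesC.Gen Groth.Agent.CurvesC.GenPt Groth.Agent.CurvesB.HZero
open Groth.Agent.CurvesC.ProjMap Groth.Agent.CurvesC.ProjSpaceBasic Groth.Agent.CurvesC.ToProj
open Groth.Agent.Fdesc.LocGen (tmul)
open ConicSec ConicEmb DiagForm ConicCurve CurveBasic

variable {k : Type u} [Field k]

/-- A curve of genus zero over a field of characteristic different from two is a diagonal conic. -/
theorem exists_iso_Q (h2 : (2 : k) ≠ 0) {X : Scheme.{u}} {p : X ⟶ Spec (CommRingCat.of k)}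
    (h : ModFun.IsCurveOfGenus 0 p) :
    ∃ (w : Fin 3 → k) (_ : ∀ i, w i ≠ 0) (_ : w 2 = 1) (e : X ≅ Q w), e.hom ≫ qStr w = p := by
  letI : X.Over (Spec (CommRingCat.of k)) := ⟨p⟩
  have hi : IsIntegral X := isIntegral h
  have hp : IsProper (X ↘ Spec (CommRingCat.of k)) := h.2.1
  have hsm : Smooth (X ↘ Spec (CommRingCat.of k)) := h.1
  have hdim : topologicalKrullDim X = 1 := dim_eq_one h
  have h0 : Module.finrank k (Coh.HH X (Coh.structureModule X) 0) = 1 := h0_eq_one h
  have hg : Curv2.genus k X = 0 := h1_eq h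
  have hX : Curve.IsSmoothProperCurve k X (X ↘ (Spec (CommRingCat.of k))) := ⟨hp, hsm, hi, hdim⟩
  have hN : CompactSpace X := QuasiCompact.compactSpace_of_compactSpace (X ↘ Spec (CommRingCat.of k))
  have hN' : IsLocallyNoetherian X :=
    LocallyOfFiniteType.isLocallyNoetherian (X ↘ Spec (CommRingCat.of k))
  have hN'' : IsNoetherian X := {}
  have hn : ∀ x : X, IsIntegrallyClosed (X.presheaf.stalk x) := fun x => by
    have := isRegularLocalRing_stalk h x
    have h1 := S2821.result (X.presheaf.stalk x)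
    have := h1.1
    have := h1.2
    infer_instance
  obtain ⟨L, hL, hdeg⟩ := Models.H57.ConicPoint.exists_degree_two k X hX h0 hg
  have hLL : PicF.IsInvertible (CohB1.tensorMod L L) := Fdesc.LocGen.isInvertible_tensorMod hL hL
  have hdegLL : Curv2.deg k X (CohB1.tensorMod L L) 1 = (4 : ℕ) := by
    rw [Old.H24.LinearSeries.deg_tensor k hdim.le hL hL, hdeg]
    norm_num
  have h3 : Module.finrank k (Coh.HH X L 0) = 3 :=
    (S1635.result k X hdim h0 hg L hL 2 two_pos (by exact_mod_cast hdeg)).1
  have h5 : Module.finrank k (Coh.HH X (CohB1.tensorMod L L) 0) = 5 :=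
    (S1635.result k X hdim h0 hg _ hLL 4 four_pos hdegLL).1
  obtain ⟨σ, w', hw', hspan, hli, hrel'⟩ := exists_relation h2 L h3 h5
  have hw0' := weights_ne_zero hn h0 hL σ w' hw' hli hrel'
  let w : Fin 3 → k := fun i => (w' 2)⁻¹ * w' i
  have hw0 : ∀ i, w i ≠ 0 := fun i => mul_ne_zero (inv_ne_zero (hw0' 2)) (hw0' i)
  have hw2 : w 2 = 1 := inv_mul_cancel₀ (hw0' 2)
  have hrel : ∑ i, gl k X (w i) • tmul (σ i) (σ i) = 0 := by
    have h1 := congrArg (fun t => gl k X (w' 2)⁻¹ • t) hrel'
    simp only [Finset.smul_sum, smul_zero, smul_smul, ← map_mul] at h1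
    exact h1
  have hσ : ∀ i, σ i ≠ 0 := by
    intro i hi
    have h1 := hli (Pi.single i 1) (by
      apply Finset.sum_eq_zero
      intro j _
      by_cases hj : j = i
      · subst hj
        rw [hi, smul_zero]
      · rw [Pi.single_eq_of_ne hj, map_zero, zero_smul])
    have h2 := congrFun h1 i
    simp at h2
  have hne : ∀ i, loc (σ i) ≠ ⊤ := by
    intro i h
    have hiso : IsIso (ofSec (σ i)) := by
      rw [isIso_iff_isGen, ← le_genLocus_iff]
      exact h.ge
    have h2 := Dix.InterNum.deg_congr k X hdim (asIso (ofSec (σ i)))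
    rw [Dix.InterNum.deg_unit, hdeg] at h2
    norm_num at h2
  obtain ⟨i, hi1, hi2, hi3, hi4⟩ := exists_closedImmersion (n := 2) hdim.le (S1635.h1_structure k X hg)
    (Groth.Agent.CurvesB.HZero.exists_const k h0) hL σ hspan hσ hne
  obtain ⟨e, he⟩ := exists_iso h2 w hw0 hdim i (app_dehom_diagForm σ w hrel i hi3 hi4)
  exact ⟨w, hw0, hw2, e, he.trans hi2⟩

/-- A curve of genus zero over `L` is defined over a subfield of transcendence degree at most two. -/
theorem descLE (k : Type u) [Field k] {L : Type u} [Field L] [Algebra k L] (h2 : (2 : L) ≠ 0)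
    {C : Scheme.{u}} {f : C ⟶ Spec (CommRingCat.of L)} (h : ModFun.IsCurveOfGenus 0 f)
    (s : Fin 0 → (Spec (CommRingCat.of L) ⟶ C)) : MgnDesc.DescLE k 0 0 2 f s := by
  obtain ⟨w, hw, hw2, e, he⟩ := exists_iso_Q h2 h
  let S : Set L := Set.range (fun i : Fin 2 => w i.castSucc)
  let K : IntermediateField k L := IntermediateField.adjoin k S
  have hwK : ∀ i, w i ∈ K := by
    intro i
    induction i using Fin.lastCases with
    | last => exact (show w (Fin.last 2) = 1 from hw2) ▸ one_mem K
    | cast i => exact IntermediateField.subset_adjoin k S ⟨i, rfl⟩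
  let w₀ : Fin 3 → K := fun i => ⟨w i, hwK i⟩
  have hw₀ : ∀ i, w₀ i ≠ 0 := fun i h0 => hw i (congrArg Subtype.val h0)
  have h2K : (2 : K) ≠ 0 := by
    intro h0
    have h1 := congrArg (algebraMap K L) h0
    rw [map_ofNat, map_zero] at h1
    exact h2 h1
  obtain ⟨a, ha⟩ := exists_isPullback (algebraMap K L) w₀
  have hpb : IsPullback (e.hom ≫ a) f (qStr w₀) (Spec.map (CommRingCat.ofHom (algebraMap K L))) := by
    have h3 : IsPullback e.hom f (qStr w) (𝟙 _) :=
      IsPullback.of_horiz_isIso ⟨by rw [he, Category.comp_id]⟩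
    have h4 := h3.paste_horiz ha
    rwa [Category.id_comp] at h4
  refine ⟨K, Q w₀, qStr w₀, fun i => i.elim0, e.hom ≫ a, ?_, fun i => i.elim0, ?_, hpb, fun i => i.elim0⟩
  · have h3 : Algebra.trdeg k K ≤ Cardinal.mk S := Groth.Agent.An.H548.TrdegCore.trdeg_adjoin_le S
    have h4 : Cardinal.mk S ≤ (2 : ℕ) := by
      have := Cardinal.mk_range_le_lift (f := fun i : Fin 2 => w i.castSucc)
      simpa using this
    calc Cardinal.toENat (Algebra.trdeg k K) ≤ Cardinal.toENat (2 : ℕ) :=
          OrderHomClass.mono Cardinal.toENat (h3.trans h4)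
      _ = 2 := by simp
  · exact ⟨GenusField.isCurveOfGenus_descend hpb (smooth h2K w₀ hw₀) (isProper w₀)
      (geometricallyIrreducible h2K w₀ hw₀) h, fun i => i.elim0⟩

end K995.ConicModel
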