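import Groth.Agent.EssDim.K995.DiagRel
import Groth.Agent.CurvesC.GenPt
import Groth.Agent.CurvesB.HZero
import Groth.Agent.Fdesc.LocGenTensor
import Groth.Agent.Picfga.RegLocus

/-!
# Diagonal quadratic relations between sections of an invertible module
-/

set_option autoImplicit false
set_option linter.style.haveILetI false
universe u
open CategoryTheory CategoryTheory.Limits AlgebraicGeometry TopologicalSpace Opposite

namespace K995.ConicSec

open Groth.Agent Groth.Agent.CurvesC.Gen Groth.Agent.CurvesC.GenPt Groth.Agent.CurvesB.HZero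
open Groth.Agent.Fdesc.LocGen (tmul)

variable {k : Type u} [Field k] {X : Scheme.{u}} [X.Over (Spec (CommRingCat.of k))]

/-- The multiplication of global sections of an invertible module, as a bilinear map over the base field. -/
noncomputable def mulB (k : Type u) [Field k] [X.Over (Spec (CommRingCat.of k))] (L : X.Modules) :
    letI := moduleΓ k L
    letI := moduleΓ k (CohB1.tensorMod L L)
    Γ(L, ⊤) →ₗ[k] Γ(L, ⊤) →ₗ[k] Γ(CohB1.tensorMod L L, ⊤) :=
  letI := moduleΓ k L
  letI := moduleΓ k (CohB1.tensorMod L L)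
  LinearMap.mk₂ k (fun s t => tmul s t) (fun a b c => Fdesc.LocGen.add_tmul a b c)
    (fun c a b => Fdesc.LocGen.smul_tmul (gl k X c) a b) (fun a b c => Fdesc.LocGen.tmul_add a b c)
    (fun c a b => Fdesc.LocGen.tmul_smul (gl k X c) a b)

/-- Relations between squares of a basis of `Γ(L)` of dimension three when `Γ(L ⊗ L)` has dimension five. -/
theorem exists_relation (h2 : (2 : k) ≠ 0) (L : X.Modules) (h3 : Module.finrank k (Coh.HH X L 0) = 3)
    (h5 : Module.finrank k (Coh.HH X (CohB1.tensorMod L L) 0) = 5) :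
    ∃ (σ : Fin 3 → Γ(L, ⊤)) (w : Fin 3 → k), w ≠ 0 ∧
      (∀ r : Γ(L, ⊤), ∃ c : Fin 3 → k, r = ∑ j, gl k X (c j) • σ j) ∧
      (∀ c : Fin 3 → k, ∑ j, gl k X (c j) • σ j = 0 → c = 0) ∧
      ∑ i, gl k X (w i) • tmul (σ i) (σ i) = 0 := by
  letI := moduleΓ k L
  letI := moduleΓ k (CohB1.tensorMod L L)
  have e3 := (equivLin k L).finrank_eq
  have e5 := (equivLin k (CohB1.tensorMod L L)).finrank_eq
  rw [h3] at e3
  rw [h5] at e5
  have hf3 : Module.Finite k Γ(L, ⊤) := Module.finite_of_finrank_pos (by rw [← e3]; norm_num)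
  have hf5 : Module.Finite k Γ(CohB1.tensorMod L L, ⊤) := Module.finite_of_finrank_pos (by rw [← e5]; norm_num)
  let b : Module.Basis (Fin 3) k Γ(L, ⊤) := Module.finBasisOfFinrankEq k _ e3.symm
  obtain ⟨v, w, hw, hrel⟩ := DiagRel.exists_relation h2 b (by rw [← e5]; norm_num) (mulB k L)
  refine ⟨v, w, hw, fun r => ⟨fun j => v.repr r j, (v.sum_repr r).symm⟩, fun c hc => ?_, hrel⟩
  funext i
  exact Fintype.linearIndependent_iff.1 v.linearIndependent c hc i

/-- The restriction of a constant. -/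
noncomputable def cst (k : Type u) [Field k] (X : Scheme.{u}) [X.Over (Spec (CommRingCat.of k))] (U : X.Opens) :
    k →+* Γ(X, U) := (X.presheaf.map (homOfLE (le_top : U ≤ ⊤)).op).hom.comp (gl k X)

theorem exists_const_of_sq [IsIntegral X] (hn : ∀ x : X, IsIntegrallyClosed (X.presheaf.stalk x))
    (h0 : Module.finrank k (Coh.HH X (Coh.structureModule X) 0) = 1) {U : X.Opens} (hU : (U : Set X).Nonempty)
    (r s : Γ(X, U)) (hs : IsUnit s) (c : k) (h : r * r = cst k X U c * (s * s)) :
    ∃ t : k, r = cst k X U t * s := by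
  have hne : Nonempty U := hU.to_subtype
  have hnt : Nonempty (⊤ : X.Opens) := ⟨⟨hU.some, trivial⟩⟩
  let gU : Γ(X, U) →+* X.functionField := (X.germToFunctionField U).hom
  let gT : Γ(X, ⊤) →+* X.functionField := (X.germToFunctionField ⊤).hom
  have hcomp : ∀ a : Γ(X, ⊤), gU (X.presheaf.map (homOfLE (le_top : U ≤ ⊤)).op a) = gT a := fun a =>
    X.presheaf.germ_res_apply _ _ _ _
  have hβ : gU s ≠ 0 := (hs.map gU).ne_zero
  let v : X.functionField := gU r / gU s
  have hv : v ^ 2 = gT (gl k X c) := by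
    have h1 := congrArg gU h
    rw [map_mul, map_mul, map_mul] at h1
    have h2 : gU (cst k X U c) = gT (gl k X c) := hcomp _
    rw [h2] at h1
    rw [div_pow, div_eq_iff (pow_ne_zero 2 hβ), pow_two, pow_two, h1]
  have hreg : Picfga.RegLocus.reg v = ⊤ := by
    ext x
    refine ⟨fun _ => trivial, fun _ => ?_⟩
    have := hn x
    have h3 : gT (gl k X c) = algebraMap (X.presheaf.stalk x) X.functionField
        (X.presheaf.germ ⊤ x trivial (gl k X c)) :=
      (Scheme.algebraMap_germ_eq_germToFunctionField X (U := ⊤) (x := x) trivial (gl k X c)).symm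
    have h4 : IsIntegral (X.presheaf.stalk x) (v ^ 2) := by
      rw [hv, h3]
      exact isIntegral_algebraMap
    obtain ⟨y, hy⟩ := IsIntegrallyClosed.exists_algebraMap_eq_of_isIntegral_pow (R := X.presheaf.stalk x)
      (K := X.functionField) (n := 2) (by norm_num) h4
    exact ⟨y, hy⟩
  obtain ⟨s₀, hs₀⟩ := Picfga.RegLocus.exists_section v
  have key : ∀ (V : X.Opens) (hV : V = ⊤) [Nonempty V] (s : Γ(X, V)), X.germToFunctionField V s = v →
      ∃ s : Γ(X, ⊤), gT s = v := by
    rintro _ rfl _ s hs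
    exact ⟨s, hs⟩
  obtain ⟨s₁, hs₁⟩ := key _ hreg s₀ hs₀
  obtain ⟨t, ht⟩ := CurvesB.HZero.exists_const k h0 s₁
  refine ⟨t, ?_⟩
  apply Scheme.germToFunctionField_injective X U
  change gU r = gU (cst k X U t * s)
  have h5 : gU (cst k X U t) = gT (gl k X t) := hcomp _
  rw [map_mul, h5, ht, hs₁, div_mul_cancel₀ _ hβ]

theorem cst_injective [IsIntegral X] {U : X.Opens} (hU : (U : Set X).Nonempty) :
    Function.Injective (cst k X U) := by
  have hne : Nonempty U := hU.to_subtype
  exact (cst k X U).injective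

theorem res_gl_smul (L : X.Modules) (U : X.Opens) (c : k) (σ : Γ(L, ⊤)) :
    L.presheaf.map (homOfLE (le_top : U ≤ ⊤)).op (gl k X c • σ) =
      cst k X U c • L.presheaf.map (homOfLE (le_top : U ≤ ⊤)).op σ :=
  map_smul_section L le_top _ _

theorem pair_zero [IsIntegral X] (hn : ∀ x : X, IsIntegrallyClosed (X.presheaf.stalk x))
    (h0 : Module.finrank k (Coh.HH X (Coh.structureModule X) 0) = 1) {L : X.Modules} (hL : PicF.IsInvertible L)
    {U : X.Opens} (hU : (U : Set X).Nonempty) {e : Γ(L, U)} (σ τ : Γ(L, ⊤)) (r s : Γ(X, U)) (hr : IsUnit r)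
    (hs : IsUnit s) (hσ : r • e = L.presheaf.map (homOfLE (le_top : U ≤ ⊤)).op σ)
    (hτ : s • e = L.presheaf.map (homOfLE (le_top : U ≤ ⊤)).op τ)
    (hli : ∀ t : k, σ ≠ gl k X t • τ) {a b : k} (h : cst k X U a * (r * r) + cst k X U b * (s * s) = 0) :
    a = 0 ∧ b = 0 := by
  have hne : Nonempty U := hU.to_subtype
  have ha : a = 0 := by
    by_contra ha
    have h1 : r * r = cst k X U (-b / a) * (s * s) := by
      have h2 : cst k X U a * (r * r) = cst k X U a * (cst k X U (-b / a) * (s * s)) := by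
        rw [← mul_assoc (cst k X U a) (cst k X U (-b / a)), ← map_mul, mul_div_cancel₀ _ ha, map_neg]
        linear_combination h
      have h3 : IsUnit (cst k X U a) := (isUnit_iff_ne_zero.2 ha).map _
      exact h3.mul_left_cancel h2
    obtain ⟨t, ht⟩ := exists_const_of_sq hn h0 hU r s hs _ h1
    apply hli t
    rw [← sub_eq_zero]
    apply CurvesC.InvSec.eq_zero_of_res_eq_zero hL (le_top : U ≤ ⊤) hU
    rw [map_sub, res_gl_smul, ← hσ, ← hτ, ht, mul_smul, sub_self]
  refine ⟨ha, ?_⟩
  rw [ha, map_zero, zero_mul, zero_add] at h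
  have h1 : cst k X U b = 0 := (hs.mul hs).mul_left_eq_zero.1 h
  exact cst_injective hU (h1.trans (map_zero _).symm)

theorem weights_ne_zero [IsIntegral X] (hn : ∀ x : X, IsIntegrallyClosed (X.presheaf.stalk x))
    (h0 : Module.finrank k (Coh.HH X (Coh.structureModule X) 0) = 1) {L : X.Modules} (hL : PicF.IsInvertible L)
    (σ : Fin 3 → Γ(L, ⊤)) (w : Fin 3 → k) (hw : w ≠ 0)
    (hli : ∀ c : Fin 3 → k, ∑ j, gl k X (c j) • σ j = 0 → c = 0)
    (hrel : ∑ i, gl k X (w i) • tmul (σ i) (σ i) = 0) : ∀ i, w i ≠ 0 := by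
  have hσ : ∀ i, σ i ≠ 0 := by
    intro i hi
    have h1 := hli (Pi.single i 1) (by
      apply Finset.sum_eq_zero
      intro j _
      by_cases hj : j = i
      · subst hj
        rw [hi, smul_zero]
      · rw [Pi.single_eq_of_ne hj, map_zero, zero_smul])
    have h2 := congrFun h1 i
    simp at h2
  have hli2 : ∀ i l, i ≠ l → ∀ t : k, σ i ≠ gl k X t • σ l := by
    intro i l hil t h
    have h1 := hli (Pi.single i 1 - t • Pi.single l 1) (by
      have : ∀ j, gl k X ((Pi.single i 1 - t • Pi.single l 1 : Fin 3 → k) j) • σ j =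
          gl k X ((Pi.single i 1 : Fin 3 → k) j) • σ j - gl k X (t * (Pi.single l 1 : Fin 3 → k) j) • σ j := by
        intro j
        rw [Pi.sub_apply, Pi.smul_apply, smul_eq_mul, map_sub, sub_smul]
      rw [Finset.sum_congr rfl fun j _ => this j, Finset.sum_sub_distrib]
      rw [Finset.sum_eq_single i, Finset.sum_eq_single l]
      · rw [Pi.single_eq_same, Pi.single_eq_same, map_one, one_smul, mul_one, h, sub_self]
      · intro j _ hj
        rw [Pi.single_eq_of_ne hj, mul_zero, map_zero, zero_smul]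
      · simp
      · intro j _ hj
        rw [Pi.single_eq_of_ne hj, map_zero, zero_smul]
      · simp)
    have h2 := congrFun h1 i
    simp [Pi.single_eq_of_ne hil] at h2
  have hg : ∀ i, genericPoint X ∈ loc (σ i) := by
    intro i
    have h1 := loc_ne_bot hL (hσ i)
    have h2 : ((loc (σ i) : X.Opens) : Set X).Nonempty := by
      by_contra hcon
      apply h1
      rw [← TopologicalSpace.Opens.coe_inj, TopologicalSpace.Opens.coe_bot]
      exact Set.not_nonempty_iff_eq_empty.1 hcon
    exact ((genericPoint_spec X).mem_open_set_iff (loc (σ i)).isOpen).mpr (by simpa using h2)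
  let U : X.Opens := ⨅ i, loc (σ i)
  have hUle : ∀ i, U ≤ loc (σ i) := fun i => iInf_le _ i
  have hUg : genericPoint X ∈ U := by
    have : U = loc (σ 0) ⊓ (loc (σ 1) ⊓ loc (σ 2)) := by
      apply le_antisymm
      · exact le_inf (hUle 0) (le_inf (hUle 1) (hUle 2))
      · refine le_iInf fun i => ?_
        fin_cases i
        · exact inf_le_left
        · exact inf_le_right.trans inf_le_left
        · exact inf_le_right.trans inf_le_right
    rw [this]
    exact ⟨hg 0, hg 1, hg 2⟩
  have hU : (U : Set X).Nonempty := ⟨_, hUg⟩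
  have hne : Nonempty U := hU.to_subtype
  let e : Γ(L, U) := L.presheaf.map (homOfLE (le_top : U ≤ ⊤)).op (σ 0)
  have hgen : ∀ i, IsGen L U (L.presheaf.map (homOfLE (le_top : U ≤ ⊤)).op (σ i)) := by
    intro i
    have h1 : IsGen L U (sec (ofSec (σ i)) U) := (isGen_genLocus (ofSec (σ i))).mono_sec (hUle i)
    rwa [sec_ofSec] at h1
  have he : IsGen L U e := hgen 0
  choose r hr using fun i => he.exists_eq (L.presheaf.map (homOfLE (le_top : U ≤ ⊤)).op (σ i))
  have hru : ∀ i, IsUnit (r i) := fun i => (isGen_iff_of_eq_smul he (hr i)).1 (hgen i)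
  have hsum : ∑ i, cst k X U (w i) * (r i * r i) = 0 := by
    have h1 := congrArg (Fdesc.LocGen.res (CohB1.tensorMod L L) (le_top : U ≤ ⊤)) hrel
    rw [map_zero, map_sum] at h1
    have h2 : ∀ i, Fdesc.LocGen.res (CohB1.tensorMod L L) (le_top : U ≤ ⊤) (gl k X (w i) • tmul (σ i) (σ i)) =
        (cst k X U (w i) * (r i * r i)) • tmul e e := by
      intro i
      have h3 : Fdesc.LocGen.res L (le_top : U ≤ ⊤) (σ i) = r i • e := (hr i).symm
      have h4 := res_gl_smul (CohB1.tensorMod L L) U (w i) (tmul (σ i) (σ i))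
      refine h4.trans ?_
      have h5 : (CohB1.tensorMod L L).presheaf.map (homOfLE (le_top : U ≤ ⊤)).op (tmul (σ i) (σ i)) =
        tmul (r i • e) (r i • e) := by
        rw [← h3]
        exact Fdesc.LocGen.res_tmul _ _ _
      rw [h5, Fdesc.LocGen.smul_tmul, Fdesc.LocGen.tmul_smul, smul_smul, smul_smul, mul_assoc]
    rw [Finset.sum_congr rfl fun i _ => h2 i, ← Finset.sum_smul] at h1
    have hee : IsGen (CohB1.tensorMod L L) U (tmul e e) := Fdesc.LocGen.IsGen.tmul he he
    exact hee.injective (h1.trans (zero_smul _ _).symm)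
  have key : ∀ i l, i ≠ l → cst k X U (w i) * (r i * r i) + cst k X U (w l) * (r l * r l) = 0 →
      w i = 0 ∧ w l = 0 := fun i l hil h =>
    pair_zero hn h0 hL hU (σ i) (σ l) (r i) (r l) (hru i) (hru l) (hr i) (hr l) (hli2 i l hil) h
  rw [Fin.sum_univ_three] at hsum
  intro i hi
  apply hw
  fin_cases i
  · simp only [Fin.zero_eta] at hi
    rw [hi, map_zero, zero_mul, zero_add] at hsum
    obtain ⟨h1, h2⟩ := key 1 2 (by decide) hsum
    funext j
    fin_cases j <;> assumption
  · simp only [Fin.mk_one] at hi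
    rw [hi, map_zero, zero_mul, add_zero] at hsum
    obtain ⟨h1, h2⟩ := key 0 2 (by decide) hsum
    funext j
    fin_cases j <;> assumption
  · have hi' : w 2 = 0 := hi
    rw [hi', map_zero, zero_mul, add_zero] at hsum
    obtain ⟨h1, h2⟩ := key 0 1 (by decide) hsum
    funext j
    fin_cases j <;> assumption

end K995.ConicSec
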