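import Groth.Agent.EssDim.K995.ConicEmb
import Groth.Agent.Lefpen.H121.GenericSmooth
import Groth.Agent.Lefpen.H61.T4Int
import Groth.Agent.Lefpen.H718.JacCI
import Groth.Agent.Lefpen.H21.CiBase

/-!
# Diagonal conics
-/

set_option autoImplicit false
set_option linter.style.haveILetI false
universe u
open CategoryTheory CategoryTheory.Limits AlgebraicGeometry TopologicalSpace Opposite

namespace K995.DiagForm

open Groth.Agent Groth.Agent.CurvesC Groth.Agent.CurvesC.Gen Groth.Agent.CurvesC.GenPt Groth.Agent.CurvesB.HZero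
open Groth.Agent.CurvesC.ProjMap Groth.Agent.CurvesC.ProjSpaceBasic Groth.Agent.CurvesC.ToProj
open Groth.Agent.Fdesc.LocGen (tmul)
open ConicSec ConicEmb

/-- The form `∑ w_i X_i ^ 2`. -/
noncomputable def diagForm {k : Type u} [Field k] (w : Fin 3 → k) : LefPen.Form 2 k 2 :=
  ⟨∑ i, MvPolynomial.C (w i) * MvPolynomial.X i ^ 2, by
    rw [MvPolynomial.mem_homogeneousSubmodule]
    refine MvPolynomial.IsHomogeneous.sum _ _ _ fun i _ => ?_
    have h1 := (MvPolynomial.isHomogeneous_C (Fin 3) (w i)).mul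
      ((MvPolynomial.isHomogeneous_X k i).pow 2)
    simpa using h1⟩

theorem app_eq_zero_of_appLE {X Y : Scheme.{u}} (φ : X ⟶ Y) (V : Y.Opens) (U : X.Opens) (hU : U ≤ φ ⁻¹ᵁ V)
    (hU' : φ ⁻¹ᵁ V = U) (s : Γ(Y, V)) (h : (φ.appLE V U hU).hom s = 0) : (φ.app V).hom s = 0 := by
  subst hU'
  rw [Scheme.Hom.app_eq_appLE]
  exact h

section vanish

variable {k : Type u} [Field k] {X : Scheme.{u}} [X.Over (Spec (CommRingCat.of k))]

theorem app_dehom_diagForm {L : X.Modules} (σ : Fin (2 + 1) → Γ(L, ⊤)) (w : Fin 3 → k)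
    (hrel : ∑ i, gl k X (w i) • tmul (σ i) (σ i) = 0) (φ : X ⟶ CohB1.ProjSpace 2 k)
    (hpre : ∀ j, φ ⁻¹ᵁ LefPen.chart 2 k j = loc (σ j))
    (hφ : IsMapOf (X ↘ (Spec (CommRingCat.of k))) L (fun j => ofSec (σ j)) φ) (i : Fin (2 + 1)) :
    (φ.app (LefPen.chart 2 k i)).hom (LefPen.dehom (diagForm w) i) = 0 := by
  let s : Fin (2 + 1) → (Coh.structureModule X ⟶ L) := fun i => ofSec (σ i)
  refine app_eq_zero_of_appLE φ _ (CohB1.genLocus L (s i)) (hpre i).ge (hpre i) _ ?_
  rw [appLE_dehom hφ]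
  have hgen : IsGen L (CohB1.genLocus L (s i)) (sec (s i) _) := isGen_genLocus (s i)
  have hee : IsGen (CohB1.tensorMod L L) (CohB1.genLocus L (s i))
      (tmul (sec (s i) (CohB1.genLocus L (s i))) (sec (s i) (CohB1.genLocus L (s i)))) :=
    Fdesc.LocGen.IsGen.tmul hgen hgen
  apply hee.injective
  rw [zero_smul]
  have h1 : locHom (X ↘ (Spec (CommRingCat.of k))) L s i (diagForm w).1 =
      ∑ j, struct (X ↘ (Spec (CommRingCat.of k))) _ (w j) * rat L s i j ^ 2 := by
    rw [diagForm, map_sum]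
    refine Finset.sum_congr rfl fun j _ => ?_
    rw [map_mul, map_pow, locHom_C, locHom_X]
  rw [h1, Finset.sum_smul]
  have h2 := congrArg (Fdesc.LocGen.res (CohB1.tensorMod L L)
    (le_top : CohB1.genLocus L (s i) ≤ ⊤)) hrel
  rw [map_zero, map_sum] at h2
  rw [← h2]
  refine Finset.sum_congr rfl fun j _ => ?_
  have h3 : Fdesc.LocGen.res L (le_top : CohB1.genLocus L (s i) ≤ ⊤) (σ j) =
      rat L s i j • sec (s i) (CohB1.genLocus L (s i)) := by
    rw [rat_smul]
    exact (sec_ofSec (σ j) _).symm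
  have h4 := res_gl_smul (CohB1.tensorMod L L) (CohB1.genLocus L (s i)) (w j) (tmul (σ j) (σ j))
  refine Eq.trans ?_ h4.symm
  have h5 : (CohB1.tensorMod L L).presheaf.map
      (homOfLE (le_top : CohB1.genLocus L (s i) ≤ ⊤)).op (tmul (σ j) (σ j)) =
      tmul (rat L s i j • sec (s i) (CohB1.genLocus L (s i))) (rat L s i j • sec (s i) (CohB1.genLocus L (s i))) := by
    rw [← h3]
    exact Fdesc.LocGen.res_tmul _ _ _
  rw [h5, Fdesc.LocGen.smul_tmul, Fdesc.LocGen.tmul_smul, smul_smul, smul_smul, mul_assoc, pow_two]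
  rfl

end vanish

section conic

open MvPolynomial Groth.Agent.Lefpen.H718.Chart Groth.Agent.Lefpen.H121.GenericSmooth
open Groth.Agent.Lefpen.H718.Reg Groth.Agent.Lefpen.H61.T4Int Groth.Agent.Lefpen.H61.T4Phi

variable {k : Type u} [Field k]

theorem diagForm_val (w : Fin 3 → k) :
    (diagForm w).1 = ∑ i, MvPolynomial.C (w i) * MvPolynomial.X i ^ 2 := rfl

theorem pderiv_diagForm (w : Fin 3 → k) (l : Fin 3) :
    pderiv l (diagForm w).1 = C (2 * w l) * X l := by
  rw [diagForm_val, map_sum]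
  have h1 : ∀ j, pderiv l (C (w j) * X j ^ 2 : MvPolynomial (Fin 3) k) =
      C (2 * w j) * X j * pderiv l (X j) := by
    intro j
    rw [Derivation.leibniz, pderiv_C, smul_zero, add_zero, Derivation.leibniz_pow]
    simp only [smul_eq_mul, nsmul_eq_mul, map_mul]
    have : (C (2 : k) : MvPolynomial (Fin 3) k) = 2 := map_ofNat C 2
    rw [this]
    push_cast
    ring
  simp only [h1]
  rw [Finset.sum_eq_single l]
  · rw [pderiv_X_self, mul_one]
  · intro j _ hj
    rw [pderiv_X_of_ne hj, mul_zero]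
  · simp

/-- The conic as a (one-member) complete intersection. -/
noncomputable abbrev G (w : Fin 3 → k) : ∀ _ : Fin 1, LefPen.Form 2 k 2 := fun _ => diagForm w

theorem smooth_yStr (h2 : (2 : k) ≠ 0) (w : Fin 3 → k) (hw : ∀ i, w i ≠ 0) :
    SmoothOfRelativeDimension 1 (yStr (a := fun _ : Fin 1 => 2) (G w)) := by
  refine smooth_of_forall_point (a := fun _ : Fin 1 => 2) (G w) rfl ?_
  intro K _ _ v i hi hv
  have h2K : (2 : K) ≠ 0 := by
    have h := (map_ne_zero (algebraMap k K)).2 h2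
    rwa [map_ofNat] at h
  have hwK : ∀ i, algebraMap k K (w i) ≠ 0 := fun i => (map_ne_zero _).2 (hw i)
  rw [linearIndependent_unique_iff]
  intro h
  have h1 : ∀ l : Fin 2, v (i.succAbove l) = 0 := by
    intro l
    have h3 : aeval v (pderiv (i.succAbove l) (diagForm w).1) = 0 := congrFun h l
    rw [pderiv_diagForm, map_mul, aeval_C, aeval_X, map_mul, map_ofNat] at h3
    rcases mul_eq_zero.1 h3 with h4 | h4
    · rcases mul_eq_zero.1 h4 with h5 | h5
      · exact absurd h5 h2K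
      · exact absurd h5 (hwK _)
    · exact h4
  have h3 : aeval v (diagForm w).1 = 0 := hv 0
  rw [diagForm_val, map_sum, Fin.sum_univ_succAbove _ i, Finset.sum_eq_zero, add_zero, map_mul, aeval_C,
    map_pow, aeval_X, hi, one_pow, mul_one] at h3
  · exact hwK _ h3
  · intro l _
    rw [map_mul, map_pow, aeval_X, h1 l]
    simp

theorem jacCond (h2 : (2 : k) ≠ 0) (w : Fin 3 → k) (hw : ∀ i, w i ≠ 0) :
    JacCond (eqn (a := fun _ : Fin 1 => 2) (G w)) := by
  have := smooth_yStr h2 w hw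
  exact Groth.Agent.Lefpen.H718.JacCI.jacCond (a := fun _ : Fin 1 => 2) (G w) (n := 1) rfl

theorem isIntegral_Y (h2 : (2 : k) ≠ 0) (w : Fin 3 → k) (hw : ∀ i, w i ≠ 0) :
    IsIntegral (Y (a := fun _ : Fin 1 => 2) (G w)) :=
  Groth.Agent.Lefpen.H61.T4Int.isIntegral_Y (a := fun _ : Fin 1 => 2) (G w) (fun _ => by norm_num)
    (jacCond h2 w hw) (n := 1) rfl le_rfl

end conic

end K995.DiagForm
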