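import Mathlib.LinearAlgebra.BilinearForm.Orthogonal
import Mathlib.LinearAlgebra.QuadraticForm.Basic
import Mathlib.LinearAlgebra.Dimension.Constructions
import Mathlib.LinearAlgebra.Matrix.BilinearForm
import Mathlib.LinearAlgebra.FiniteDimensional.Lemmas

/-!
# Diagonal relations between squares of vectors

`V` of dimension three, `W` of dimension at most five, `m : V × V → W` bilinear: some basis of `V` satisfies a nontrivial
relation `∑ w_i m(v_i, v_i) = 0` (characteristic not two).
-/

set_option autoImplicit false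

open Module

namespace K995.DiagRel

variable {k V W : Type*} [Field k] [AddCommGroup V] [Module k V] [AddCommGroup W] [Module k W]

/-- A nontrivial symmetric relation. -/
theorem exists_symm_relation (b : Basis (Fin 3) k V) [Module.Finite k W] (hW : finrank k W < 6)
    (m : V →ₗ[k] V →ₗ[k] W) : ∃ S : Matrix (Fin 3) (Fin 3) k, S ≠ 0 ∧ S.IsSymm ∧
      ∑ i, ∑ j, S i j • m (b i) (b j) = 0 := by
  let f : (Fin 6 → k) →ₗ[k] W :=
    (LinearMap.proj 0).smulRight (m (b 0) (b 0)) +
    (LinearMap.proj 1).smulRight (m (b 0) (b 1) + m (b 1) (b 0)) +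
    (LinearMap.proj 2).smulRight (m (b 0) (b 2) + m (b 2) (b 0)) +
    (LinearMap.proj 3).smulRight (m (b 1) (b 1)) +
    (LinearMap.proj 4).smulRight (m (b 1) (b 2) + m (b 2) (b 1)) +
    (LinearMap.proj 5).smulRight (m (b 2) (b 2))
  have hker : LinearMap.ker f ≠ ⊥ := by
    apply LinearMap.ker_ne_bot_of_finrank_lt
    rw [finrank_fintype_fun_eq_card, Fintype.card_fin]
    exact hW
  obtain ⟨c, hc, hc0⟩ := Submodule.exists_mem_ne_zero_of_ne_bot hker
  refine ⟨!![c 0, c 1, c 2; c 1, c 3, c 4; c 2, c 4, c 5], ?_, ?_, ?_⟩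
  · intro h
    apply hc0
    have h1 := fun i j => congrFun (congrFun h i) j
    have h00 := h1 0 0
    have h01 := h1 0 1
    have h02 := h1 0 2
    have h11 := h1 1 1
    have h12 := h1 1 2
    have h22 := h1 2 2
    simp at h00 h01 h02 h11 h12 h22
    funext i
    fin_cases i <;> assumption
  · ext i j
    fin_cases i <;> fin_cases j <;> rfl
  · have h1 : f c = 0 := hc
    simp only [f, LinearMap.add_apply, LinearMap.smulRight_apply, LinearMap.proj_apply, smul_add] at h1
    simp only [Fin.sum_univ_three]
    rw [← h1]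
    simp
    abel

theorem exists_relation (h2 : (2 : k) ≠ 0) (b : Basis (Fin 3) k V) [Module.Finite k W] (hW : finrank k W < 6)
    (m : V →ₗ[k] V →ₗ[k] W) :
    ∃ (v : Basis (Fin 3) k V) (w : Fin 3 → k), w ≠ 0 ∧ ∑ i, w i • m (v i) (v i) = 0 := by
  classical
  obtain ⟨S, hS0, hSs, hS⟩ := exists_symm_relation b hW m
  have : Invertible (2 : k) := invertibleOfNonzero h2
  let B : LinearMap.BilinForm k (Fin 3 → k) := Matrix.toBilin' S
  have hB : LinearMap.IsSymm B := by
    refine ⟨fun x y => ?_⟩
    rw [RingHom.id_apply]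
    simp only [B, Matrix.toBilin'_apply]
    rw [Finset.sum_comm]
    refine Finset.sum_congr rfl fun i _ => Finset.sum_congr rfl fun j _ => ?_
    rw [hSs.apply]
    ring
  obtain ⟨u, hu⟩ := LinearMap.BilinForm.exists_orthogonal_basis hB
  let e : Fin (finrank k (Fin 3 → k)) ≃ Fin 3 := finCongr (by simp)
  let u' := u.reindex e
  have hu' : ∀ i j, i ≠ j → B (u' i) (u' j) = 0 := fun i j hij => by
    simp only [u', Basis.reindex_apply]
    exact hu (fun h => hij (e.symm.injective h))
  have hSij : ∀ i j, S i j = ∑ l, u'.repr (Pi.single i 1) l * u'.repr (Pi.single j 1) l * B (u' l) (u' l) := by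
    intro i j
    have h1 : S i j = B (Pi.single i 1) (Pi.single j 1) := (Matrix.toBilin'_single S i j).symm
    rw [h1]
    conv_lhs => rw [← u'.sum_repr (Pi.single i 1), ← u'.sum_repr (Pi.single j 1)]
    simp only [map_sum, LinearMap.sum_apply, map_smul, LinearMap.smul_apply, smul_eq_mul]
    refine Finset.sum_congr rfl fun l _ => ?_
    rw [Finset.sum_eq_single l]
    · ring
    · intro l' _ hl'
      rw [hu' _ _ hl']
      ring
    · simp
  let v : Fin 3 → V := fun l => ∑ i, u'.repr (Pi.single i 1) l • b i
  have hv : LinearIndependent k v := by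
    rw [Fintype.linearIndependent_iff]
    intro c hc l
    have h1 : ∀ i, ∑ l, c l * u'.repr (Pi.single i 1) l = 0 := by
      have h2 : ∑ i, (∑ l, c l * u'.repr (Pi.single i 1) l) • b i = 0 := by
        rw [← hc]
        simp only [v, Finset.smul_sum, Finset.sum_smul, smul_smul]
        exact Finset.sum_comm
      exact Fintype.linearIndependent_iff.1 b.linearIndependent _ h2
    let lam : (Fin 3 → k) →ₗ[k] k := ∑ l, c l • u'.coord l
    have h3 : lam = 0 := by
      apply LinearMap.pi_ext'
      intro i
      ext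
      simpa [lam] using h1 i
    have h4 := congr($h3 (u' l))
    simpa [lam, Finsupp.single_apply] using h4
  have hfr : finrank k V = 3 := by rw [finrank_eq_card_basis b]; simp
  let v' := basisOfLinearIndependentOfCardEqFinrank hv (by rw [hfr]; simp)
  have hv' : ∀ i, v' i = v i := fun i => by
    simp only [v', coe_basisOfLinearIndependentOfCardEqFinrank]
  refine ⟨v', fun l => B (u' l) (u' l), ?_, ?_⟩
  · intro h
    apply hS0
    ext i j
    rw [hSij]
    have : ∀ l, B (u' l) (u' l) = 0 := fun l => congrFun h l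
    simp [this]
  · rw [← hS]
    simp only [hv', hSij, v, map_sum, LinearMap.sum_apply, map_smul, LinearMap.smul_apply, Finset.smul_sum,
      Finset.sum_smul, smul_smul]
    rw [Finset.sum_comm]
    conv_rhs => rw [Finset.sum_comm]
    refine Finset.sum_congr rfl fun j _ => ?_
    rw [Finset.sum_comm]
    refine Finset.sum_congr rfl fun i _ => Finset.sum_congr rfl fun l _ => ?_
    congr 1
    ring

end K995.DiagRel
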