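import Mathlib.RingTheory.Flat.Basic
import Mathlib.RingTheory.TensorProduct.Basic
import Mathlib.LinearAlgebra.LinearIndependent.Lemmas
import Mathlib.LinearAlgebra.Dual.Lemmas
import Mathlib.LinearAlgebra.TensorProduct.Tower
import Mathlib.RingTheory.Flat.Stability

/-!
# Descent of subspaces and of vectors to the intersection of two fields

`F ⊆ L, E ⊆ Ω` fields with `L ∩ E = F`, `V` a vector space over `F`.

* `exists_of_eq`: a vector of `L ⊗ V` and a vector of `E ⊗ V` with the same image in `Ω ⊗ V` come from `V`.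
* `mem_span_of_mem`: a subspace of `L ⊗ V` and a subspace of `E ⊗ V` with the same span in `Ω ⊗ V` come from `V`.
-/

set_option autoImplicit false
universe u v

namespace K995.FieldInt

open TensorProduct

variable {F L E Ω : Type*} [Field F] [Field L] [Field E] [Field Ω] [Algebra F L] [Algebra F E] [Algebra F Ω]
  [Algebra L Ω] [Algebra E Ω] [IsScalarTower F L Ω] [IsScalarTower F E Ω]
  {V : Type*} [AddCommGroup V] [Module F V]

variable (F L E Ω) in
/-- The intersection of `L` and `E` in `Ω` is `F`. -/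
def IntEq : Prop := ∀ (a : L) (b : E), algebraMap L Ω a = algebraMap E Ω b → ∃ c : F, algebraMap F L c = a

variable (F Ω) in
/-- The map `L ⊗ V → Ω ⊗ V`. -/
noncomputable def up (L : Type*) [Field L] [Algebra F L] [Algebra L Ω] [IsScalarTower F L Ω] (V : Type*)
    [AddCommGroup V] [Module F V] : L ⊗[F] V →ₗ[F] Ω ⊗[F] V :=
  LinearMap.rTensor V (IsScalarTower.toAlgHom F L Ω).toLinearMap

@[simp] theorem up_tmul (a : L) (v : V) : up F Ω L V (a ⊗ₜ v) = algebraMap L Ω a ⊗ₜ v := rfl

theorem up_smul (a : L) (x : L ⊗[F] V) : up F Ω L V (a • x) = algebraMap L Ω a • up F Ω L V x := by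
  induction x with
  | zero => simp
  | tmul b v => rw [smul_tmul', up_tmul, up_tmul, smul_tmul', smul_eq_mul, smul_eq_mul, map_mul]
  | add x y hx hy => simp [smul_add, hx, hy]

theorem exists_of_eq (h : IntEq F L E Ω) (x : L ⊗[F] V) (y : E ⊗[F] V)
    (hxy : up F Ω L V x = up F Ω E V y) : ∃ v : V, x = 1 ⊗ₜ v := by
  let f : F →ₗ[F] (L × E) := (Algebra.linearMap F L).prod (Algebra.linearMap F E)
  let g : (L × E) →ₗ[F] Ω := (IsScalarTower.toAlgHom F L Ω).toLinearMap.coprod
    (-(IsScalarTower.toAlgHom F E Ω).toLinearMap)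
  have hex : Function.Exact f g := by
    rintro ⟨a, b⟩
    constructor
    · intro hab
      have h1 : algebraMap L Ω a = algebraMap E Ω b := by
        have h2 : algebraMap L Ω a + -algebraMap E Ω b = 0 := hab
        rwa [← sub_eq_add_neg, sub_eq_zero] at h2
      obtain ⟨c, rfl⟩ := h a b h1
      refine ⟨c, Prod.ext rfl ?_⟩
      apply (algebraMap E Ω).injective
      rw [← h1, ← IsScalarTower.algebraMap_apply]
      exact (IsScalarTower.algebraMap_apply F E Ω c).symm
    · rintro ⟨c, hc⟩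
      obtain ⟨rfl, rfl⟩ := Prod.ext_iff.1 hc
      change algebraMap L Ω (algebraMap F L c) + -algebraMap E Ω (algebraMap F E c) = 0
      rw [← IsScalarTower.algebraMap_apply, ← IsScalarTower.algebraMap_apply, add_neg_cancel]
  have hex' := Module.Flat.rTensor_exact V hex
  let t : (L × E) ⊗[F] V := LinearMap.rTensor V (LinearMap.inl F L E) x + LinearMap.rTensor V (LinearMap.inr F L E) y
  have ht : LinearMap.rTensor V g t = 0 := by
    rw [map_add, ← LinearMap.comp_apply, ← LinearMap.comp_apply, ← LinearMap.rTensor_comp, ← LinearMap.rTensor_comp]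
    have h1 : g ∘ₗ LinearMap.inl F L E = (IsScalarTower.toAlgHom F L Ω).toLinearMap := LinearMap.coprod_inl _ _
    have h2 : g ∘ₗ LinearMap.inr F L E = -(IsScalarTower.toAlgHom F E Ω).toLinearMap := LinearMap.coprod_inr _ _
    rw [h1, h2, LinearMap.rTensor_neg, LinearMap.neg_apply]
    exact add_neg_eq_zero.2 hxy
  obtain ⟨s, hs⟩ := (hex' t).1 ht
  obtain ⟨v, rfl⟩ : ∃ v : V, s = 1 ⊗ₜ v := ⟨TensorProduct.lid F V s, by
    rw [← TensorProduct.lid_symm_apply, LinearEquiv.symm_apply_apply]⟩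
  refine ⟨v, ?_⟩
  have h3 := congrArg (LinearMap.rTensor V (LinearMap.fst F L E)) hs
  have h4 : LinearMap.rTensor V (LinearMap.fst F L E) (LinearMap.rTensor V (LinearMap.inl F L E) x) = x := by
    rw [← LinearMap.comp_apply, ← LinearMap.rTensor_comp, LinearMap.fst_comp_inl, LinearMap.rTensor_id,
      LinearMap.id_apply]
  have h5 : LinearMap.rTensor V (LinearMap.fst F L E) (LinearMap.rTensor V (LinearMap.inr F L E) y) = 0 := by
    rw [← LinearMap.comp_apply, ← LinearMap.rTensor_comp, LinearMap.fst_comp_inr, LinearMap.rTensor_zero,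
      LinearMap.zero_apply]
  rw [map_add, h4, h5, add_zero] at h3
  rw [← h3]
  change _ = (1 : L) ⊗ₜ[F] v
  rw [← map_one (algebraMap F L)]
  rfl

/-- An `L`-linear functional on `Ω` gives a map `Ω ⊗ V → L ⊗ V`. -/
noncomputable def down (μ : Ω →ₗ[L] L) (V : Type*) [AddCommGroup V] [Module F V] : Ω ⊗[F] V →ₗ[F] L ⊗[F] V :=
  LinearMap.rTensor V (μ.restrictScalars F)

theorem down_tmul (μ : Ω →ₗ[L] L) (ω : Ω) (v : V) : down μ V (ω ⊗ₜ[F] v) = μ ω ⊗ₜ v := rfl

theorem down_smul_up (μ : Ω →ₗ[L] L) (ω : Ω) (x : L ⊗[F] V) : down μ V (ω • up F Ω L V x) = μ ω • x := by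
  induction x with
  | zero => simp
  | tmul b v =>
    rw [up_tmul, smul_tmul', down_tmul, smul_tmul', smul_eq_mul, smul_eq_mul, mul_comm ω, ← Algebra.smul_def,
      map_smul, smul_eq_mul, mul_comm]
  | add x y hx hy => rw [map_add, smul_add, map_add, hx, hy, smul_add]

theorem down_smul (μ : Ω →ₗ[L] L) (a : Ω) (x : Ω ⊗[F] V) :
    down μ V (a • x) = down (μ ∘ₗ LinearMap.mulLeft L a) V x := by
  induction x with
  | zero => simp
  | tmul b v => rw [smul_tmul', down_tmul, down_tmul]; rfl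
  | add x y hx hy => rw [smul_add, map_add, map_add, hx, hy]

/-- Functionals map the span of a subspace into the subspace. -/
theorem down_mem (N : Submodule L (L ⊗[F] V)) (x : Ω ⊗[F] V)
    (hx : x ∈ Submodule.span Ω (up F Ω L V '' (N : Set (L ⊗[F] V)))) : ∀ μ : Ω →ₗ[L] L, down μ V x ∈ N := by
  induction hx using Submodule.span_induction with
  | mem x h =>
    intro μ
    obtain ⟨y, hy, rfl⟩ := h
    have := down_smul_up μ 1 y
    rw [one_smul] at this
    rw [this]
    exact N.smul_mem _ hy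
  | zero => simp
  | add x y _ _ hx hy => intro μ; rw [map_add]; exact N.add_mem (hx μ) (hy μ)
  | smul a x hx' hx => intro μ; rw [down_smul]; exact hx _

/-- Functionals separate the elements of a field extension. -/
theorem exists_functional {a : Ω} (ha : a ≠ 0) : ∃ μ : Ω →ₗ[L] L, μ a ≠ 0 := by
  by_contra hcon
  push Not at hcon
  exact ha ((Module.forall_dual_apply_eq_zero_iff L a).1 hcon)

/-- Functionals detect the smaller field. -/
theorem mem_of_functional {a : Ω} (h : ∀ μ : Ω →ₗ[L] L, μ 1 = 0 → μ a = 0) : ∃ c : L, algebraMap L Ω c = a := by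
  by_contra hcon
  have h1 : a ∉ Submodule.span L ({1} : Set Ω) := by
    rw [Submodule.mem_span_singleton]
    rintro ⟨c, hc⟩
    exact hcon ⟨c, by rw [← hc, Algebra.smul_def, mul_one]⟩
  obtain ⟨μ, h2, h3⟩ := Submodule.exists_le_ker_of_notMem h1
  exact h2 (h μ (h3 (Submodule.mem_span_singleton_self 1)))

theorem mem_span_of_mem (h : IntEq F L E Ω) (N : Submodule L (L ⊗[F] V)) (N' : Submodule E (E ⊗[F] V))
    (hN : Submodule.span Ω (up F Ω L V '' (N : Set (L ⊗[F] V))) =
      Submodule.span Ω (up F Ω E V '' (N' : Set (E ⊗[F] V)))) (x : L ⊗[F] V) (hx : x ∈ N) :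
    x ∈ Submodule.span L {y | y ∈ N ∧ ∃ v : V, y = 1 ⊗ₜ v} := by
  classical
  let q : V → (L ⊗[F] V) ⧸ N := fun v => N.mkQ (1 ⊗ₜ v)
  obtain ⟨κ, a, -, hspan, hli⟩ := exists_linearIndependent' L q
  let M : Submodule L (L ⊗[F] V) := Submodule.span L {y | y ∈ N ∧ ∃ v : V, y = 1 ⊗ₜ v}
  have hM : M ≤ N := Submodule.span_le.2 fun y hy => hy.1
  -- linear combinations of the chosen vectors
  let Ψ : (κ →₀ L) →ₗ[L] L ⊗[F] V := Finsupp.linearCombination L (fun j => (1 : L) ⊗ₜ[F] a j)
  have hΨ : ∀ d : κ →₀ L, N.mkQ (Ψ d) = Finsupp.linearCombination L (q ∘ a) d := by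
    intro d
    rw [← LinearMap.comp_apply, Finsupp.linearCombination_apply, LinearMap.comp_apply,
      Finsupp.linearCombination_apply, Finsupp.sum, map_sum, Finsupp.sum]
    exact Finset.sum_congr rfl fun j _ => map_smul _ _ _
  -- independence over `Ω`
  have hind : ∀ (s : Finset κ) (ω : κ → Ω), ∑ j ∈ s, ω j ⊗ₜ[F] a j ∈
      Submodule.span Ω (up F Ω L V '' (N : Set (L ⊗[F] V))) → ∀ j ∈ s, ω j = 0 := by
    intro s ω hs j hj
    by_contra h0
    obtain ⟨μ, hμ⟩ := exists_functional (L := L) h0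
    have h1 := down_mem N _ hs μ
    rw [map_sum] at h1
    have h2 : ∑ j ∈ s, μ (ω j) • q (a j) = 0 := by
      have h3 : N.mkQ (∑ j ∈ s, down μ V (ω j ⊗ₜ[F] a j)) = 0 := (Submodule.Quotient.mk_eq_zero N).2 h1
      rw [map_sum] at h3
      rw [← h3]
      refine Finset.sum_congr rfl fun j _ => ?_
      rw [down_tmul, ← map_smul, smul_tmul', smul_eq_mul, mul_one]
    exact hμ (linearIndependent_iff'.1 hli s _ h2 j hj)
  have hA : ∀ v : V, (1 : L) ⊗ₜ[F] v ∈ M ⊔ LinearMap.range Ψ := by
    intro v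
    have h1 : q v ∈ Submodule.span L (Set.range (q ∘ a)) := by
      rw [hspan]
      exact Submodule.subset_span ⟨v, rfl⟩
    rw [Finsupp.mem_span_range_iff_exists_finsupp] at h1
    obtain ⟨c, hc⟩ := h1
    have hn : (1 : L) ⊗ₜ[F] v - Ψ c ∈ N := by
      rw [← Submodule.Quotient.mk_eq_zero N, ← Submodule.mkQ_apply, map_sub, hΨ, Finsupp.linearCombination_apply, hc,
        sub_self]
    have hΨc : Ψ c = ∑ j ∈ c.support, c j ⊗ₜ[F] a j := by
      rw [Finsupp.linearCombination_apply, Finsupp.sum]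
      refine Finset.sum_congr rfl fun j _ => ?_
      rw [smul_tmul', smul_eq_mul, mul_one]
    -- the coefficients lie in `F`
    have hcF : ∀ j ∈ c.support, ∃ f : F, algebraMap F L f = c j := by
      intro j hj
      have h2 : ∃ e : E, algebraMap E Ω e = algebraMap L Ω (c j) := by
        refine mem_of_functional fun μ hμ => ?_
        have h3 : up F Ω L V ((1 : L) ⊗ₜ[F] v - Ψ c) ∈
            Submodule.span Ω (up F Ω E V '' (N' : Set (E ⊗[F] V))) := by
          rw [← hN]
          exact Submodule.subset_span ⟨_, hn, rfl⟩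
        have h4 := down_mem N' _ h3 μ
        rw [map_sub, map_sub, up_tmul, map_one, down_tmul, hμ, zero_tmul, zero_sub, neg_mem_iff, hΨc, map_sum,
          map_sum] at h4
        have h5 : up F Ω E V (∑ j ∈ c.support, down μ V (up F Ω L V (c j ⊗ₜ[F] a j))) ∈
            Submodule.span Ω (up F Ω L V '' (N : Set (L ⊗[F] V))) := by
          rw [hN]
          exact Submodule.subset_span ⟨_, h4, rfl⟩
        rw [map_sum] at h5
        have h6 := hind c.support (fun j => algebraMap E Ω (μ (algebraMap L Ω (c j)))) h5 j hj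
        exact (map_eq_zero _).1 h6
      obtain ⟨e, he⟩ := h2
      exact h _ e he.symm
    choose! f hf using hcF
    refine Submodule.mem_sup.2 ⟨(1 : L) ⊗ₜ[F] v - Ψ c, ?_, Ψ c, ⟨c, rfl⟩, sub_add_cancel _ _⟩
    refine Submodule.subset_span ⟨hn, v - ∑ j ∈ c.support, f j • a j, ?_⟩
    rw [hΨc, tmul_sub, tmul_sum]
    congr 1
    refine Finset.sum_congr rfl fun j hj => ?_
    rw [← hf j hj, tmul_smul, smul_tmul', Algebra.smul_def, mul_one]
  have hB : ∀ y : L ⊗[F] V, y ∈ M ⊔ LinearMap.range Ψ := by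
    intro y
    induction y with
    | zero => exact Submodule.zero_mem _
    | tmul l v =>
      have h1 := Submodule.smul_mem _ l (hA v)
      rwa [smul_tmul', smul_eq_mul, mul_one] at h1
    | add x y hx hy => exact Submodule.add_mem _ hx hy
  obtain ⟨m, hm, _, ⟨d, rfl⟩, hmd⟩ := Submodule.mem_sup.1 (hB x)
  have h1 : Ψ d ∈ N := by
    have h2 := N.sub_mem hx (hM hm)
    rwa [← hmd, add_sub_cancel_left] at h2
  have h2 : d = 0 := by
    apply hli.finsuppLinearCombination_injective
    rw [map_zero, ← hΨ]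
    exact (Submodule.Quotient.mk_eq_zero N).2 h1
  rw [h2, map_zero, add_zero] at hmd
  exact hmd ▸ hm

end K995.FieldInt
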