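import Groth.Agent.EssDim.K995.FieldInt
import Groth.Agent.Divis.IdealComap
import Mathlib.AlgebraicGeometry.Morphisms.Flat
import Mathlib.RingTheory.TensorProduct.Maps

/-!
# Morphisms of schemes defined over two fields are defined over the intersection

`F ⊆ L, E ⊆ Ω` fields with `L ∩ E = F`, `A` an algebra over `F`.

* `exists_ringHom`: ring homomorphisms `B → L ⊗ A` and `B → E ⊗ A` that agree in `Ω ⊗ A` come from `B → A`.
* `le_map_comap`: ideals of `L ⊗ A` and `E ⊗ A` with the same extension to `Ω ⊗ A` come from `A`.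
-/

set_option autoImplicit false
universe u
open CategoryTheory CategoryTheory.Limits AlgebraicGeometry TopologicalSpace Opposite

namespace K995.FieldPush

open TensorProduct FieldInt

section ring

variable {F L E Ω : Type u} [Field F] [Field L] [Field E] [Field Ω] [Algebra F L] [Algebra F E] [Algebra F Ω]
  [Algebra L Ω] [Algebra E Ω] [IsScalarTower F L Ω] [IsScalarTower F E Ω]
  {A : Type u} [CommRing A] [Algebra F A]

variable (F Ω) in
/-- The ring homomorphism `L ⊗ A → Ω ⊗ A`. -/
noncomputable def mp (L : Type u) [Field L] [Algebra F L] [Algebra L Ω] [IsScalarTower F L Ω] (A : Type u)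
    [CommRing A] [Algebra F A] : L ⊗[F] A →ₐ[F] Ω ⊗[F] A :=
  Algebra.TensorProduct.map (IsScalarTower.toAlgHom F L Ω) (AlgHom.id F A)

theorem mp_apply (x : L ⊗[F] A) : mp F Ω L A x = up F Ω L A x := rfl

variable (F) in
/-- `A → L ⊗ A`. -/
noncomputable abbrev inc (L : Type u) [Field L] [Algebra F L] (A : Type u) [CommRing A] [Algebra F A] :
    A →+* L ⊗[F] A := (Algebra.TensorProduct.includeRight : A →ₐ[F] L ⊗[F] A).toRingHom

theorem inc_injective : Function.Injective (inc F L A) :=
  Algebra.TensorProduct.includeRight_injective (algebraMap F L).injective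

theorem exists_ringHom (h : IntEq F L E Ω) {B : Type u} [CommRing B] (β : B →+* L ⊗[F] A) (β' : B →+* E ⊗[F] A)
    (hβ : ∀ b, mp F Ω L A (β b) = mp F Ω E A (β' b)) : ∃ γ : B →+* A, β = (inc F L A).comp γ := by
  have h1 : ∀ b, ∃ a : A, inc F L A a = β b := fun b => by
    obtain ⟨v, hv⟩ := exists_of_eq h (β b) (β' b) (hβ b)
    exact ⟨v, hv.symm⟩
  choose γ hγ using h1
  refine ⟨{ toFun := γ, map_one' := ?_, map_mul' := ?_, map_zero' := ?_, map_add' := ?_ }, ?_⟩
  · apply inc_injective (F := F) (L := L); rw [hγ, map_one, map_one]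
  · intro x y; apply inc_injective (F := F) (L := L); rw [hγ, map_mul, map_mul, hγ, hγ]
  · apply inc_injective (F := F) (L := L); rw [hγ, map_zero, map_zero]
  · intro x y; apply inc_injective (F := F) (L := L); rw [hγ, map_add, map_add, hγ, hγ]
  · ext b; exact (hγ b).symm

theorem tmul_mul_mem_span (I : Ideal (L ⊗[F] A)) (a : A) (x : Ω ⊗[F] A)
    (hx : x ∈ Submodule.span Ω (up F Ω L A '' (I : Set (L ⊗[F] A)))) :
    (1 : Ω) ⊗ₜ[F] a * x ∈ Submodule.span Ω (up F Ω L A '' (I : Set (L ⊗[F] A))) := by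
  induction hx using Submodule.span_induction with
  | mem x h =>
    obtain ⟨y, hy, rfl⟩ := h
    refine Submodule.subset_span ⟨(1 : L) ⊗ₜ[F] a * y, I.mul_mem_left _ hy, ?_⟩
    rw [← mp_apply, map_mul, mp_apply, up_tmul, map_one, mp_apply]
  | zero => rw [mul_zero]; exact Submodule.zero_mem _
  | add x y _ _ hx hy => rw [mul_add]; exact Submodule.add_mem _ hx hy
  | smul c x _ hx => rw [mul_smul_comm]; exact Submodule.smul_mem _ _ hx

/-- The extension of an ideal of `L ⊗ A` to `Ω ⊗ A` is its span over `Ω`. -/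
theorem mem_map_iff (I : Ideal (L ⊗[F] A)) (x : Ω ⊗[F] A) :
    x ∈ I.map (mp F Ω L A) ↔ x ∈ Submodule.span Ω (up F Ω L A '' (I : Set (L ⊗[F] A))) := by
  constructor
  · intro hx
    rw [Ideal.map] at hx
    induction hx using Submodule.span_induction with
    | mem x h => exact Submodule.subset_span h
    | zero => exact Submodule.zero_mem _
    | add x y _ _ hx hy => exact Submodule.add_mem _ hx hy
    | smul r x _ hx =>
      rw [smul_eq_mul]
      induction r with
      | zero => rw [zero_mul]; exact Submodule.zero_mem _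
      | add r s hr hs => rw [add_mul]; exact Submodule.add_mem _ hr hs
      | tmul ω a =>
        have h1 : ω ⊗ₜ[F] a * x = ω • ((1 : Ω) ⊗ₜ[F] a * x) := by
          rw [← smul_mul_assoc, smul_tmul', smul_eq_mul, mul_one]
        rw [h1]
        exact Submodule.smul_mem _ _ (tmul_mul_mem_span I a x hx)
  · intro hx
    induction hx using Submodule.span_induction with
    | mem x h =>
      obtain ⟨y, hy, rfl⟩ := h
      exact Ideal.mem_map_of_mem (mp F Ω L A) hy
    | zero => exact Ideal.zero_mem _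
    | add x y _ _ hx hy => exact Ideal.add_mem _ hx hy
    | smul c x _ hx =>
      rw [Algebra.smul_def]
      exact Ideal.mul_mem_left _ _ hx

/-- Ideals with the same extension to `Ω ⊗ A` come from `A`. -/
theorem le_map_comap (h : IntEq F L E Ω) (I : Ideal (L ⊗[F] A)) (I' : Ideal (E ⊗[F] A))
    (hI : I.map (mp F Ω L A) = I'.map (mp F Ω E A)) : I ≤ (I.comap (inc F L A)).map (inc F L A) := by
  intro x hx
  have h1 := mem_span_of_mem h (I.restrictScalars L) (I'.restrictScalars E) (by
    ext y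
    have h2 := mem_map_iff (Ω := Ω) I y
    have h3 := mem_map_iff (Ω := Ω) I' y
    exact h2.symm.trans ((by rw [hI]) : y ∈ I.map (mp F Ω L A) ↔ y ∈ I'.map (mp F Ω E A)) |>.trans h3) x hx
  have h2 : Submodule.span L {y | y ∈ I.restrictScalars L ∧ ∃ v : A, y = 1 ⊗ₜ v} ≤
      ((I.comap (inc F L A)).map (inc F L A)).restrictScalars L := by
    refine Submodule.span_le.2 ?_
    rintro _ ⟨hy, v, rfl⟩
    exact Ideal.mem_map_of_mem (inc F L A) (show v ∈ I.comap (inc F L A) from hy)
  exact h2 h1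

end ring

section idl

open Groth.Agent.Divis.IdealComap

variable {X : Scheme.{u}} (J : X.IdealSheafData) {R R' : Type u} [CommRing R] [CommRing R']

/-- The ideal of `R` of the inverse image of an ideal sheaf under `Spec R ⟶ X`. -/
noncomputable def idl (φ : Spec (CommRingCat.of R) ⟶ X) : Ideal R :=
  ((J.comap φ).ideal ⟨⊤, isAffineOpen_top _⟩).map (Scheme.ΓSpecIso (CommRingCat.of R)).hom.hom

theorem idl_comp (m : R →+* R') (φ : Spec (CommRingCat.of R) ⟶ X) :
    idl J (Spec.map (CommRingCat.ofHom m) ≫ φ) = (idl J φ).map m := by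
  rw [idl, Scheme.IdealSheafData.comap_comp, ideal_comap_top, Ideal.map_map, idl, Ideal.map_map]
  congr 1
  have h := Scheme.ΓSpecIso_naturality (CommRingCat.ofHom m)
  exact congrArg CommRingCat.Hom.hom h

theorem mem_support_iff (φ : Spec (CommRingCat.of R) ⟶ X) (y : Spec (CommRingCat.of R)) :
    φ y ∈ J.support ↔ ∀ f ∈ idl J φ, f ∈ y.asIdeal := by
  have h1 : φ y ∈ J.support ↔ y ∈ (J.comap φ).support := by
    rw [Scheme.IdealSheafData.support_comap]
    rfl
  rw [h1, Scheme.IdealSheafData.mem_support_iff_of_mem (U := ⟨⊤, isAffineOpen_top _⟩) (Opens.mem_top y),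
    Scheme.mem_zeroLocus_iff]
  constructor
  · intro h f hf
    rw [idl, map_eq_comap_of_iso] at hf
    have h2 := h _ hf
    rw [basicOpen_eq_of_affine] at h2
    by_contra h3
    exact h2 h3
  · intro h s hs
    have h2 := h _ (Ideal.mem_map_of_mem _ hs)
    rw [show s = (Scheme.ΓSpecIso (CommRingCat.of R)).inv ((Scheme.ΓSpecIso (CommRingCat.of R)).hom s) by simp,
      basicOpen_eq_of_affine]
    exact fun h3 => h3 h2

end idl

section geom

variable {F L E Ω : Type u} [Field F] [Field L] [Field E] [Field Ω] [Algebra F L] [Algebra F E] [Algebra F Ω]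
  [Algebra L Ω] [Algebra E Ω] [IsScalarTower F L Ω] [IsScalarTower F E Ω]
  {A : Type u} [CommRing A] [Algebra F A]

variable (F L A) in
theorem isPullback_inc :
    IsPullback (Spec.map (CommRingCat.ofHom (inc F L A)))
      (Spec.map (CommRingCat.ofHom (algebraMap L (L ⊗[F] A))))
      (Spec.map (CommRingCat.ofHom (algebraMap F A))) (Spec.map (CommRingCat.ofHom (algebraMap F L))) :=
  (isPullback_SpecMap_of_isPushout _ _ _ _ (CommRingCat.isPushout_tensorProduct F L A)).flip

variable (F L Ω A) in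
theorem isPullback_mp :
    IsPullback (Spec.map (CommRingCat.ofHom (mp F Ω L A).toRingHom))
      (Spec.map (CommRingCat.ofHom (algebraMap Ω (Ω ⊗[F] A))))
      (Spec.map (CommRingCat.ofHom (algebraMap L (L ⊗[F] A))))
      (Spec.map (CommRingCat.ofHom (algebraMap L Ω))) := by
  refine IsPullback.of_right ?_ ?_ (isPullback_inc F L A)
  · have h1 : Spec.map (CommRingCat.ofHom (mp F Ω L A).toRingHom) ≫ Spec.map (CommRingCat.ofHom (inc F L A)) =
        Spec.map (CommRingCat.ofHom (inc F Ω A)) := by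
      rw [← Spec.map_comp, ← CommRingCat.ofHom_comp]
      congr 2
      ext a
      change (mp F Ω L A) ((1 : L) ⊗ₜ[F] a) = (1 : Ω) ⊗ₜ[F] a
      rw [mp_apply, up_tmul, map_one]
    have h2 : Spec.map (CommRingCat.ofHom (algebraMap L Ω)) ≫ Spec.map (CommRingCat.ofHom (algebraMap F L)) =
        Spec.map (CommRingCat.ofHom (algebraMap F Ω)) := by
      rw [← Spec.map_comp, ← CommRingCat.ofHom_comp, ← IsScalarTower.algebraMap_eq]
    rw [h1, h2]
    exact isPullback_inc F Ω A
  · rw [← Spec.map_comp, ← CommRingCat.ofHom_comp, ← Spec.map_comp, ← CommRingCat.ofHom_comp]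
    congr 2

instance surjective_field (F L : Type u) [Field F] [Field L] [Algebra F L] :
    Surjective (Spec.map (CommRingCat.ofHom (algebraMap F L))) :=
  ⟨fun _ => ⟨IsLocalRing.closedPoint L, Subsingleton.elim _ _⟩⟩

instance flat_field (F L : Type u) [Field F] [Field L] [Algebra F L] :
    Flat (Spec.map (CommRingCat.ofHom (algebraMap F L))) := by
  rw [Flat.SpecMap_iff]
  exact (RingHom.flat_algebraMap_iff).2 inferInstance

theorem surjective_inc : Surjective (Spec.map (CommRingCat.ofHom (inc F L A))) :=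
  MorphismProperty.of_isPullback (isPullback_inc F L A).flip inferInstance

theorem surjective_mp : Surjective (Spec.map (CommRingCat.ofHom (mp F Ω L A).toRingHom)) :=
  MorphismProperty.of_isPullback (isPullback_mp F L Ω A).flip inferInstance

/-- Morphisms to an affine scheme. -/
theorem exists_of_affine (h : IntEq F L E Ω) {U : Scheme.{u}} [IsAffine U]
    (φ : Spec (CommRingCat.of (L ⊗[F] A)) ⟶ U) (ψ : Spec (CommRingCat.of (E ⊗[F] A)) ⟶ U)
    (hφψ : Spec.map (CommRingCat.ofHom (mp F Ω L A).toRingHom) ≫ φ =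
      Spec.map (CommRingCat.ofHom (mp F Ω E A).toRingHom) ≫ ψ) :
    ∃ χ : Spec (CommRingCat.of A) ⟶ U, φ = Spec.map (CommRingCat.ofHom (inc F L A)) ≫ χ := by
  let β := Spec.preimage (φ ≫ U.isoSpec.hom)
  let β' := Spec.preimage (ψ ≫ U.isoSpec.hom)
  have hβ : Spec.map β = φ ≫ U.isoSpec.hom := Spec.map_preimage _
  have hβ' : Spec.map β' = ψ ≫ U.isoSpec.hom := Spec.map_preimage _
  have h1 : β ≫ CommRingCat.ofHom (mp F Ω L A).toRingHom = β' ≫ CommRingCat.ofHom (mp F Ω E A).toRingHom := by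
    apply Spec.map_injective
    rw [Spec.map_comp, Spec.map_comp, hβ, hβ', ← Category.assoc, ← Category.assoc, hφψ]
  obtain ⟨γ, hγ⟩ := exists_ringHom h (B := Γ(U, ⊤)) β.hom β'.hom
    (fun b => RingHom.congr_fun (congrArg CommRingCat.Hom.hom h1) b)
  refine ⟨Spec.map (CommRingCat.ofHom γ) ≫ U.isoSpec.inv, ?_⟩
  rw [← Category.assoc, ← Spec.map_comp, Iso.eq_comp_inv, ← hβ]
  congr 1
  ext b
  exact RingHom.congr_fun hγ b

variable (F L A) in
/-- `L ⊗ A → L ⊗ A_f`. -/
noncomputable def locMap (f : A) : L ⊗[F] A →ₐ[F] L ⊗[F] Localization.Away f :=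
  Algebra.TensorProduct.map (AlgHom.id F L) (IsScalarTower.toAlgHom F A (Localization.Away f))

theorem mp_locMap (f : A) :
    CommRingCat.ofHom (locMap F L A f).toRingHom ≫ CommRingCat.ofHom (mp F Ω L (Localization.Away f)).toRingHom =
      CommRingCat.ofHom (mp F Ω L A).toRingHom ≫ CommRingCat.ofHom (locMap F Ω A f).toRingHom := by
  rw [← CommRingCat.ofHom_comp, ← CommRingCat.ofHom_comp]
  congr 1
  have h : (mp F Ω L (Localization.Away f)).comp (locMap F L A f) = (locMap F Ω A f).comp (mp F Ω L A) := by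
    rw [mp, mp, locMap, locMap, ← Algebra.TensorProduct.map_comp, ← Algebra.TensorProduct.map_comp]
    rfl
  exact congrArg AlgHom.toRingHom h

theorem inc_locMap (f : A) : CommRingCat.ofHom (inc F L A) ≫ CommRingCat.ofHom (locMap F L A f).toRingHom =
    CommRingCat.ofHom (algebraMap A (Localization.Away f)) ≫ CommRingCat.ofHom (inc F L (Localization.Away f)) := by
  rw [← CommRingCat.ofHom_comp, ← CommRingCat.ofHom_comp]
  congr 1

/-- The local form of the factorization. -/
theorem exists_local (h : IntEq F L E Ω) {X : Scheme.{u}}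
    (φ : Spec (CommRingCat.of (L ⊗[F] A)) ⟶ X) (ψ : Spec (CommRingCat.of (E ⊗[F] A)) ⟶ X)
    (hφψ : Spec.map (CommRingCat.ofHom (mp F Ω L A).toRingHom) ≫ φ =
      Spec.map (CommRingCat.ofHom (mp F Ω E A).toRingHom) ≫ ψ) (y : Spec (CommRingCat.of A)) :
    ∃ (f : A) (_ : f ∉ y.asIdeal) (χ : Spec (CommRingCat.of (Localization.Away f)) ⟶ X),
      Spec.map (CommRingCat.ofHom (locMap F L A f).toRingHom) ≫ φ =
        Spec.map (CommRingCat.ofHom (inc F L (Localization.Away f))) ≫ χ := by
  obtain ⟨z, rfl⟩ := (surjective_inc (F := F) (L := L) (A := A)).surj y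
  obtain ⟨_, ⟨U, hU, rfl⟩, hz, -⟩ :=
    X.isBasis_affineOpens.exists_subset_of_mem_open (Set.mem_univ (φ z)) isOpen_univ
  change X.Opens at U
  have : IsAffine U := hU
  let J : X.IdealSheafData := Scheme.IdealSheafData.vanishingIdeal ⟨(U : Set X)ᶜ, U.isOpen.isClosed_compl⟩
  have hJ : ∀ x : X, x ∈ J.support ↔ x ∉ U := fun _ => Iff.rfl
  have hI : (idl J φ).map (mp F Ω L A).toRingHom = (idl J ψ).map (mp F Ω E A).toRingHom := by
    rw [← idl_comp, ← idl_comp, hφψ]
  have hI' := le_map_comap h (idl J φ) (idl J ψ) hI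
  obtain ⟨f, hf, hfz⟩ : ∃ f, f ∈ (idl J φ).comap (inc F L A) ∧ inc F L A f ∉ z.asIdeal := by
    by_contra hcon
    push Not at hcon
    have h1 : φ z ∈ J.support := by
      rw [mem_support_iff]
      intro g hg
      exact (Ideal.map_le_iff_le_comap.2 (fun f hf => hcon f hf)) (hI' hg)
    exact (hJ _).1 h1 hz
  refine ⟨f, hfz, ?_⟩
  have hr : ∀ w, (Spec.map (CommRingCat.ofHom (locMap F L A f).toRingHom) ≫ φ) w ∈ U := by
    intro w
    by_contra hw
    rw [Scheme.Hom.comp_apply, ← hJ, mem_support_iff] at hw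
    have h1 := hw _ hf
    have h2 : inc F L (Localization.Away f) (algebraMap A (Localization.Away f) f) ∈ w.asIdeal := h1
    have h3 : IsUnit (inc F L (Localization.Away f) (algebraMap A (Localization.Away f) f)) :=
      (IsLocalization.Away.algebraMap_isUnit f).map _
    exact w.isPrime.ne_top (Ideal.eq_top_of_isUnit_mem _ h2 h3)
  have hr' : ∀ w, (Spec.map (CommRingCat.ofHom (locMap F E A f).toRingHom) ≫ ψ) w ∈ U := by
    intro w
    obtain ⟨v, rfl⟩ := (surjective_mp (F := F) (L := E) (Ω := Ω) (A := Localization.Away f)).surj w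
    rw [← Scheme.Hom.comp_apply, ← Category.assoc, ← Spec.map_comp, mp_locMap, Spec.map_comp, Category.assoc, ← hφψ,
      ← Category.assoc, ← Spec.map_comp, ← mp_locMap, Spec.map_comp, Category.assoc, Scheme.Hom.comp_apply]
    exact hr _
  let φ' := IsOpenImmersion.lift U.ι (Spec.map (CommRingCat.ofHom (locMap F L A f).toRingHom) ≫ φ) (by
    rintro _ ⟨w, rfl⟩
    rw [Scheme.Opens.range_ι]
    exact hr w)
  let ψ' := IsOpenImmersion.lift U.ι (Spec.map (CommRingCat.ofHom (locMap F E A f).toRingHom) ≫ ψ) (by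
    rintro _ ⟨w, rfl⟩
    rw [Scheme.Opens.range_ι]
    exact hr' w)
  have hφ' : φ' ≫ U.ι = Spec.map (CommRingCat.ofHom (locMap F L A f).toRingHom) ≫ φ := IsOpenImmersion.lift_fac _ _ _
  have hψ' : ψ' ≫ U.ι = Spec.map (CommRingCat.ofHom (locMap F E A f).toRingHom) ≫ ψ := IsOpenImmersion.lift_fac _ _ _
  obtain ⟨χ, hχ⟩ := exists_of_affine h φ' ψ' (by
    rw [← cancel_mono U.ι, Category.assoc, Category.assoc, hφ', hψ', ← Category.assoc, ← Spec.map_comp, mp_locMap,
      ← Category.assoc (Spec.map _) _ ψ, ← Spec.map_comp, mp_locMap, Spec.map_comp, Spec.map_comp, Category.assoc,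
      Category.assoc, hφψ])
  refine ⟨χ ≫ U.ι, ?_⟩
  rw [← hφ', hχ, Category.assoc]

end geom

section glue

/-- Morphisms factor through a flat surjective morphism as soon as they do so locally on the target. -/
theorem glue {Y' Y X : Scheme.{u}} (q : Y' ⟶ Y) [Flat q] [Surjective q] (φ : Y' ⟶ X)
    (H : ∀ y : Y, ∃ (W : Scheme.{u}) (j : W ⟶ Y) (_ : IsOpenImmersion j) (_ : y ∈ Set.range j) (W' : Scheme.{u})
      (g : W' ⟶ Y') (r : W' ⟶ W) (_ : IsPullback g r q j) (χ : W ⟶ X), g ≫ φ = r ≫ χ) :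
    ∃ χ : Y ⟶ X, q ≫ χ = φ := by
  choose W j hj hy W' g r hpb χ hχ using H
  let 𝒰 : Y.OpenCover :=
    { I₀ := Y
      X := W
      f := j
      mem₀ := by
        rw [Scheme.ofArrows_mem_precoverage_iff]
        exact ⟨fun y => ⟨y, hy y⟩, hj⟩ }
  have hcompat : ∀ x y, pullback.fst (𝒰.f x) (𝒰.f y) ≫ χ x = pullback.snd _ _ ≫ χ y := by
    intro x y
    let c : pullback (j x) (j y) ⟶ Y := pullback.fst (j x) (j y) ≫ j x
    have hepi : Epi (pullback.snd q c) := by
      have : Flat (pullback.snd q c) := inferInstance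
      have : Surjective (pullback.snd q c) := inferInstance
      exact Flat.epi_of_flat_of_surjective _
    rw [← cancel_epi (pullback.snd q c)]
    have h1 : ∀ (z : Y) (p : pullback (j x) (j y) ⟶ W z) (hp : p ≫ j z = c),
        pullback.snd q c ≫ p ≫ χ z = pullback.fst q c ≫ φ := by
      intro z p hp
      let l : pullback q c ⟶ W' z := (hpb z).lift (pullback.fst q c) (pullback.snd q c ≫ p) (by
        rw [Category.assoc, hp, pullback.condition])
      have hl1 : l ≫ g z = pullback.fst q c := (hpb z).lift_fst _ _ _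
      have hl2 : l ≫ r z = pullback.snd q c ≫ p := (hpb z).lift_snd _ _ _
      rw [← Category.assoc, ← hl2, Category.assoc, ← hχ, ← Category.assoc, hl1]
    exact (h1 x _ rfl).trans (h1 y _ pullback.condition.symm).symm
  refine ⟨𝒰.glueMorphisms χ hcompat, ?_⟩
  refine Scheme.Cover.hom_ext (𝒰.pullback₁ q) _ _ fun y => ?_
  change pullback.fst q (j y) ≫ q ≫ _ = pullback.fst q (j y) ≫ φ
  have h1 : j y ≫ 𝒰.glueMorphisms χ hcompat = χ y := 𝒰.ι_glueMorphisms χ hcompat y
  rw [← Category.assoc, pullback.condition, Category.assoc, h1]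
  let l : pullback q (j y) ⟶ W' y := (hpb y).lift (pullback.fst q (j y)) (pullback.snd q (j y)) pullback.condition
  have hl1 : l ≫ g y = pullback.fst q (j y) := (hpb y).lift_fst _ _ _
  have hl2 : l ≫ r y = pullback.snd q (j y) := (hpb y).lift_snd _ _ _
  rw [← hl1, Category.assoc, hχ, ← Category.assoc, hl2]

end glue

section main

variable {F L E Ω : Type u} [Field F] [Field L] [Field E] [Field Ω] [Algebra F L] [Algebra F E] [Algebra F Ω]
  [Algebra L Ω] [Algebra E Ω] [IsScalarTower F L Ω] [IsScalarTower F E Ω]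

/-- Morphisms of schemes defined over two fields are defined over the intersection. -/
theorem exists_factor (h : IntEq F L E Ω) {Y YL YE YΩ X : Scheme.{u}} {s : Y ⟶ Spec (CommRingCat.of F)}
    {sL : YL ⟶ Spec (CommRingCat.of L)} {sE : YE ⟶ Spec (CommRingCat.of E)} {sΩ : YΩ ⟶ Spec (CommRingCat.of Ω)}
    {q : YL ⟶ Y} (hq : IsPullback q sL s (Spec.map (CommRingCat.ofHom (algebraMap F L))))
    {qE : YE ⟶ Y} (hqE : IsPullback qE sE s (Spec.map (CommRingCat.ofHom (algebraMap F E))))
    {a : YΩ ⟶ YL} (ha : IsPullback a sΩ sL (Spec.map (CommRingCat.ofHom (algebraMap L Ω))))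
    {b : YΩ ⟶ YE} (hb : IsPullback b sΩ sE (Spec.map (CommRingCat.ofHom (algebraMap E Ω))))
    (hab : a ≫ q = b ≫ qE) (φ : YL ⟶ X) (ψ : YE ⟶ X) (hφψ : a ≫ φ = b ≫ ψ) :
    ∃ χ : Y ⟶ X, q ≫ χ = φ := by
  have : Flat q := MorphismProperty.of_isPullback hq.flip inferInstance
  have : Surjective q := MorphismProperty.of_isPullback hq.flip inferInstance
  refine glue q φ fun y => ?_
  -- an affine chart
  let 𝒰 := Y.affineOpenCover
  let R : CommRingCat := 𝒰.X (𝒰.idx y)
  let j₀ : Spec R ⟶ Y := 𝒰.f (𝒰.idx y)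
  obtain ⟨y₀, hy₀⟩ : ∃ y₀, j₀ y₀ = y := 𝒰.covers y
  letI : Algebra F R := (Spec.preimage (j₀ ≫ s)).hom.toAlgebra
  have hj₀ : j₀ ≫ s = Spec.map (CommRingCat.ofHom (algebraMap F R)) := (Spec.map_preimage _).symm
  -- the comparison maps
  have key : ∀ (L : Type u) [Field L] [Algebra F L] (YL : Scheme.{u}) (sL : YL ⟶ Spec (CommRingCat.of L)) (q : YL ⟶ Y)
      (_ : IsPullback q sL s (Spec.map (CommRingCat.ofHom (algebraMap F L)))),
      ∃ p : Spec (CommRingCat.of (L ⊗[F] R)) ⟶ YL,
        p ≫ sL = Spec.map (CommRingCat.ofHom (algebraMap L (L ⊗[F] R))) ∧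
          IsPullback p (Spec.map (CommRingCat.ofHom (inc F L R))) q j₀ := by
    intro L _ _ YL sL q hq
    have hw : (Spec.map (CommRingCat.ofHom (inc F L R)) ≫ j₀) ≫ s =
        Spec.map (CommRingCat.ofHom (algebraMap L (L ⊗[F] R))) ≫
          Spec.map (CommRingCat.ofHom (algebraMap F L)) := by
      rw [Category.assoc, hj₀]
      exact (isPullback_inc F L R).w
    refine ⟨hq.lift _ _ hw, hq.lift_snd _ _ hw, ?_⟩
    refine IsPullback.of_right ?_ (hq.lift_fst _ _ hw) hq.flip
    rw [hq.lift_snd _ _ hw, hj₀]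
    exact (isPullback_inc F L R).flip
  obtain ⟨pL, hpL, hL⟩ := key L YL sL q hq
  obtain ⟨pE, hpE, hE⟩ := key E YE sE qE hqE
  have hw : (Spec.map (CommRingCat.ofHom (mp F Ω L R).toRingHom) ≫ pL) ≫ sL =
      Spec.map (CommRingCat.ofHom (algebraMap Ω (Ω ⊗[F] R))) ≫
        Spec.map (CommRingCat.ofHom (algebraMap L Ω)) := by
    rw [Category.assoc, hpL]
    exact (isPullback_mp F L Ω R).w
  let pΩ := ha.lift _ _ hw
  have h1 : pΩ ≫ a = Spec.map (CommRingCat.ofHom (mp F Ω L R).toRingHom) ≫ pL := ha.lift_fst _ _ hw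
  have h2 : pΩ ≫ sΩ = Spec.map (CommRingCat.ofHom (algebraMap Ω (Ω ⊗[F] R))) := ha.lift_snd _ _ hw
  have hinc : ∀ (L : Type u) [Field L] [Algebra F L] [Algebra L Ω] [IsScalarTower F L Ω],
      Spec.map (CommRingCat.ofHom (mp F Ω L R).toRingHom) ≫ Spec.map (CommRingCat.ofHom (inc F L R)) =
        Spec.map (CommRingCat.ofHom (inc F Ω R)) := by
    intro L _ _ _ _
    rw [← Spec.map_comp, ← CommRingCat.ofHom_comp]
    congr 2
    ext a
    change (mp F Ω L R) ((1 : L) ⊗ₜ[F] a) = (1 : Ω) ⊗ₜ[F] a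
    rw [mp_apply, up_tmul, map_one]
  have h3 : pΩ ≫ b = Spec.map (CommRingCat.ofHom (mp F Ω E R).toRingHom) ≫ pE := by
    apply hqE.hom_ext
    · rw [Category.assoc, ← hab, ← Category.assoc, h1, Category.assoc, Category.assoc, hL.w, hE.w, ← Category.assoc,
        ← Category.assoc, hinc, hinc]
    · rw [Category.assoc, hb.w, ← Category.assoc, h2, Category.assoc, hpE]
      exact (isPullback_mp F E Ω R).w.symm
  obtain ⟨f, hf, χ, hχ⟩ := exists_local h (A := R) (pL ≫ φ) (pE ≫ ψ) (by
    rw [← Category.assoc, ← h1, Category.assoc, hφψ, ← Category.assoc, h3, Category.assoc]) y₀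
  refine ⟨Spec (CommRingCat.of (Localization.Away f)),
    Spec.map (CommRingCat.ofHom (algebraMap R (Localization.Away f))) ≫ j₀, inferInstance, ?_,
    Spec (CommRingCat.of (L ⊗[F] Localization.Away f)),
    Spec.map (CommRingCat.ofHom (locMap F L R f).toRingHom) ≫ pL,
    Spec.map (CommRingCat.ofHom (inc F L (Localization.Away f))), ?_, χ, ?_⟩
  · have h4 : y₀ ∈ Set.range (PrimeSpectrum.comap (algebraMap R (Localization.Away f))) := by
      rw [PrimeSpectrum.localization_away_comap_range (Localization.Away f) f]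
      exact hf
    obtain ⟨w, hw⟩ := h4
    refine ⟨w, ?_⟩
    rw [← hy₀, ← hw]
    rfl
  · refine IsPullback.paste_horiz ?_ hL
    have h5 : Spec.map (CommRingCat.ofHom (locMap F L R f).toRingHom) ≫
        Spec.map (CommRingCat.ofHom (algebraMap L (L ⊗[F] R))) =
          Spec.map (CommRingCat.ofHom (algebraMap L (L ⊗[F] Localization.Away f))) := by
      rw [← Spec.map_comp, ← CommRingCat.ofHom_comp]
      congr 2
      ext l
      change (locMap F L R f) (l ⊗ₜ[F] (1 : R)) = l ⊗ₜ[F] (1 : Localization.Away f)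
      rw [locMap, Algebra.TensorProduct.map_tmul, map_one]
      rfl
    have h6 : Spec.map (CommRingCat.ofHom (algebraMap R (Localization.Away f))) ≫
        Spec.map (CommRingCat.ofHom (algebraMap F R)) =
          Spec.map (CommRingCat.ofHom (algebraMap F (Localization.Away f))) := by
      rw [← Spec.map_comp, ← CommRingCat.ofHom_comp, ← IsScalarTower.algebraMap_eq]
    refine IsPullback.of_right ?_ ?_ (isPullback_inc F L R).flip
    · rw [h5, h6]
      exact (isPullback_inc F L (Localization.Away f)).flip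
    · rw [← Spec.map_comp, ← Spec.map_comp, inc_locMap]
  · rw [Category.assoc]
    exact hχ

end main

end K995.FieldPush
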