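import Mathlib.RingTheory.AlgebraicIndependent.TranscendenceBasis
import Mathlib.RingTheory.AlgebraicIndependent.AlgebraicClosure
import Mathlib.FieldTheory.IntermediateField.Adjoin.Algebra
import Mathlib.FieldTheory.AlgebraicClosure
import Mathlib.SetTheory.Cardinal.ENat

/-! Transcendence degrees of intermediate fields: composita and towers. -/

set_option autoImplicit false

universe u v w

namespace K995.FieldTr

open IntermediateField

/-- If `E = K(M)` is the compositum of `K` and `M` (both containing `k`), then `trdeg_K E ≤ trdeg_k M`. -/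
theorem trdeg_le_of_adjoin_range (k : Type w) (K : Type v) (M E : Type u) [Field k] [Field K] [Field M] [Field E]
    [Algebra k K] [Algebra k M] [Algebra K E] [Algebra M E] [Algebra k E] [IsScalarTower k K E] [IsScalarTower k M E]
    (h : adjoin K (Set.range (algebraMap M E)) = ⊤) : Algebra.trdeg K E ≤ Algebra.trdeg k M := by
  obtain ⟨s, hs⟩ := exists_isTranscendenceBasis k M
  set t : Set E := algebraMap M E '' s with ht
  have halg : Algebra.IsAlgebraic (adjoin K t) E := by
    have h1 : Algebra.IsAlgebraic (adjoin k (Set.range ((↑) : s → M))) M := hs.isAlgebraic_field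
    rw [Subtype.range_coe] at h1
    -- the ring homomorphism `k(s) → K(t)`
    let g : M →ₐ[k] E := IsScalarTower.toAlgHom k M E
    have hg : ∀ x : adjoin k s, g x ∈ adjoin K t := by
      intro x
      have hle : (adjoin k s).map g ≤ (adjoin K t).restrictScalars k := by
        rw [adjoin_map, adjoin_le_iff]
        exact subset_adjoin K t
      exact hle ⟨x, x.2, rfl⟩
    let f : adjoin k s →+* adjoin K t :=
      (g.toRingHom.comp (algebraMap (adjoin k s) M)).codRestrict (adjoin K t).toSubalgebra.toSubring hg
    have key : ∀ m : M, IsAlgebraic (adjoin K t) (algebraMap M E m) := fun m =>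
      (Algebra.IsAlgebraic.isAlgebraic (R := adjoin k s) m).ringHom_of_comp_eq f (algebraMap M E)
        f.injective (RingHom.ext fun x => rfl)
    have htop : (algebraicClosure (adjoin K t) E).restrictScalars K = ⊤ := by
      rw [eq_top_iff, ← h, adjoin_le_iff]
      rintro _ ⟨m, rfl⟩
      exact (mem_algebraicClosure_iff).2 (key m)
    constructor
    intro x
    have : x ∈ (algebraicClosure (adjoin K t) E).restrictScalars K := htop ▸ mem_top
    exact (mem_algebraicClosure_iff).1 this
  have halg' : Algebra.IsAlgebraic (Algebra.adjoin K t) E := isAlgebraic_adjoin_iff_top.1 halg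
  calc Algebra.trdeg K E ≤ Cardinal.mk t := Algebra.IsAlgebraic.trdeg_le_cardinalMk K t
    _ ≤ Cardinal.mk s := Cardinal.mk_image_le
    _ = Algebra.trdeg k M := hs.cardinalMk_eq_trdeg

/-- The compositum `K(M)` of `K` and an intermediate field `M` of `L/k` inside `L`. -/
theorem trdeg_adjoin_le {k : Type w} {K : Type v} {L : Type u} [Field k] [Field K] [Field L] [Algebra k K]
    [Algebra K L] [Algebra k L] [IsScalarTower k K L] (M : IntermediateField k L) :
    Algebra.trdeg K (adjoin K (M : Set L)) ≤ Algebra.trdeg k M := by
  let _ : Algebra M (adjoin K (M : Set L)) :=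
    ((algebraMap M L).codRestrict (adjoin K (M : Set L)).toSubalgebra.toSubring
      (fun x => subset_adjoin K _ x.2)).toAlgebra
  have hc : ∀ x : M, ((algebraMap M (adjoin K (M : Set L)) x : adjoin K (M : Set L)) : L) = x := fun x => rfl
  have : IsScalarTower k K (adjoin K (M : Set L)) := IsScalarTower.of_algebraMap_eq fun x => Subtype.ext
    (IsScalarTower.algebraMap_apply k K L x)
  have : IsScalarTower k M (adjoin K (M : Set L)) := IsScalarTower.of_algebraMap_eq fun x => Subtype.ext rfl
  refine trdeg_le_of_adjoin_range k K M _ ?_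
  apply (IntermediateField.map_injective (adjoin K (M : Set L)).val)
  rw [adjoin_map, ← AlgHom.fieldRange_eq_map, IntermediateField.fieldRange_val]
  congr 1
  ext x
  constructor
  · rintro ⟨_, ⟨m, rfl⟩, rfl⟩
    exact m.2
  · intro hx
    exact ⟨_, ⟨⟨x, hx⟩, rfl⟩, rfl⟩

/-- In a tower `k ⊆ K₀ ⊆ M ⊆ L` the transcendence degrees add up. -/
theorem trdeg_restrictScalars {k : Type w} {L : Type u} [Field k] [Field L] [Algebra k L]
    (K₀ : IntermediateField k L) (M : IntermediateField K₀ L) :
    Algebra.trdeg k (M.restrictScalars k) = Algebra.trdeg k K₀ + Algebra.trdeg K₀ M := by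
  exact (_root_.trdeg_add_eq k K₀ (A := M)).symm

end K995.FieldTr
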