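import Groth.Agent.EssDim.K995.ProjPt
import Mathlib.LinearAlgebra.LinearIndependent.Lemmas
import Mathlib.LinearAlgebra.Dimension.Constructions

/-!
# Moving rational points of the projective line
-/

set_option autoImplicit false
universe u

open CategoryTheory AlgebraicGeometry Limits

namespace K995.P1Pts

open Groth.Agent.Lefpen.H720.HomPt Groth.Agent.Lefpen.H170.LinAut Groth.Agent.CohqB.ProjBC ProjPt

variable {k : Type u} [Field k]

/-- Two sections of a scheme over a field with the same underlying point are equal. -/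
theorem section_ext {X : Scheme.{u}} (p : X ⟶ Spec (CommRingCat.of k)) (s t : Spec (CommRingCat.of k) ⟶ X)
    (hs : s ≫ p = 𝟙 _) (ht : t ≫ p = 𝟙 _)
    (h : s (IsLocalRing.closedPoint k) = t (IsLocalRing.closedPoint k)) : s = t := by
  have key : ∀ (s : Spec (CommRingCat.of k) ⟶ X) (x : X), s (IsLocalRing.closedPoint k) = x →
      ∃ ψ : X.residueField x ⟶ CommRingCat.of k, Spec.map ψ ≫ X.fromSpecResidueField x = s := by
    rintro s _ rfl
    exact ⟨_, Scheme.descResidueField_stalkClosedPointTo_fromSpecResidueField k X s⟩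
  obtain ⟨a, ha⟩ := key s _ h
  obtain ⟨b, hb⟩ := key t _ rfl
  have h1 : Spec.map a ≫ (X.fromSpecResidueField (t (IsLocalRing.closedPoint k)) ≫ p) = 𝟙 _ := by
    rw [← Category.assoc, ha, hs]
  have h2 : Spec.map b ≫ (X.fromSpecResidueField (t (IsLocalRing.closedPoint k)) ≫ p) = 𝟙 _ := by
    rw [← Category.assoc, hb, ht]
  obtain ⟨c, hc⟩ := Spec.map_surjective (X.fromSpecResidueField (t (IsLocalRing.closedPoint k)) ≫ p)
  rw [← hc, ← Spec.map_comp, ← Spec.map_id, Spec.map_inj] at h1 h2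
  have hiso : IsIso a := by
    rw [ConcreteCategory.isIso_iff_bijective]
    refine ⟨a.hom.injective, fun y => ⟨c.hom y, ?_⟩⟩
    exact congr($(h1).hom y)
  have h3 : inv a = c := IsIso.inv_eq_of_inv_hom_id h1
  have h4 : c ≫ b = c ≫ a := h2.trans h1.symm
  have : IsIso c := h3 ▸ inferInstance
  have h5 : b = a := (cancel_epi c).1 h4
  exact ha.symm.trans ((congrArg (fun z => Spec.map z ≫ X.fromSpecResidueField _) h5.symm).trans hb)

/-- The standard rational points of the projective line. -/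
noncomputable def std (k : Type u) [Field k] (i : Fin 2) :
    Spec (CommRingCat.of k) ⟶ CohB1.ProjSpace 1 k := hpt i (Pi.single i 1)

theorem single_ne (i : Fin 2) : (Pi.single i 1 : Fin 2 → k) i ≠ 0 := by simp

theorem std_toSpec (i : Fin 2) : std k i ≫ CohB1.ProjSpace.toSpec 1 k = 𝟙 _ := hpt_toSpec _ _

theorem std_pmap {L : Type u} [Field L] (φ : k →+* L) (i : Fin 2) :
    std L i ≫ pmap φ 1 = Spec.map (CommRingCat.ofHom φ) ≫ std k i := by
  have h1 := hpt_pmap φ (N := 1) (single_ne (k := k) i)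
  have h2 : φ ∘ (Pi.single i 1 : Fin 2 → k) = Pi.single i 1 := by
    funext j
    rw [Function.comp_apply, Pi.single_apply, Pi.single_apply]
    split_ifs <;> simp
  rw [h2] at h1
  exact h1

theorem std_ne : std k 0 ≠ std k 1 := by
  intro h
  obtain ⟨c, hc, h1⟩ := exists_smul_of_hpt_eq (single_ne (k := k) 0) (single_ne (k := k) 1) h
  have h2 := congrFun h1 1
  simp at h2

theorem std_pt_ne (c : Spec (CommRingCat.of k)) : (std k 0) c ≠ (std k 1) c := by
  intro h
  have hc : c = IsLocalRing.closedPoint k := Subsingleton.elim _ _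
  subst hc
  exact std_ne (section_ext (CohB1.ProjSpace.toSpec 1 k) _ _ (std_toSpec 0) (std_toSpec 1) h)

theorem exists_equiv (v w : Fin 2 → k) (h : LinearIndependent k ![v, w]) :
    ∃ M : (Fin 2 → k) ≃ₗ[k] (Fin 2 → k), M v = Pi.single 0 1 ∧ M w = Pi.single 1 1 := by
  let b := basisOfLinearIndependentOfCardEqFinrank h (by simp)
  have hb : ∀ i, b i = ![v, w] i := fun i => by
    rw [coe_basisOfLinearIndependentOfCardEqFinrank]
  refine ⟨b.equivFun, ?_, ?_⟩
  · have h1 : v = b 0 := (hb 0).symm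
    rw [h1]
    ext j
    rw [Module.Basis.equivFun_self, Pi.single_apply]
    simp [eq_comm]
  · have h1 : w = b 1 := (hb 1).symm
    rw [h1]
    ext j
    rw [Module.Basis.equivFun_self, Pi.single_apply]
    simp [eq_comm]

/-- Two distinct rational points of the projective line can be moved to the standard ones. -/
theorem exists_move_two [Infinite k] (s t : Spec (CommRingCat.of k) ⟶ CohB1.ProjSpace 1 k)
    (hs : s ≫ CohB1.ProjSpace.toSpec 1 k = 𝟙 _) (ht : t ≫ CohB1.ProjSpace.toSpec 1 k = 𝟙 _)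
    (hst : s ≠ t) : ∃ e : CohB1.ProjSpace 1 k ≅ CohB1.ProjSpace 1 k,
      e.hom ≫ CohB1.ProjSpace.toSpec 1 k = CohB1.ProjSpace.toSpec 1 k ∧ s ≫ e.hom = std k 0 ∧
        t ≫ e.hom = std k 1 := by
  obtain ⟨i, v, hv, rfl⟩ := exists_eq_hpt s hs
  obtain ⟨j, w, hw, rfl⟩ := exists_eq_hpt t ht
  have hv0 : v ≠ 0 := fun h => hv (by rw [h]; rfl)
  have hw0 : w ≠ 0 := fun h => hw (by rw [h]; rfl)
  have hli : LinearIndependent k ![v, w] := by
    rw [LinearIndependent.pair_iff' hv0]
    rintro a rfl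
    have ha : a ≠ 0 := by
      rintro rfl
      exact hw0 (zero_smul _ _)
    exact hst (hpt_smul ha hv hw).symm
  obtain ⟨M, h1, h2⟩ := exists_equiv v w hli
  refine ⟨aut M, autHom_toSpec M, ?_, ?_⟩
  · refine (hpt_autHom M hv (j := 0) (by rw [h1]; simp)).trans ?_
    rw [h1]; rfl
  · refine (hpt_autHom M hw (j := 1) (by rw [h2]; simp)).trans ?_
    rw [h2]; rfl

/-- A rational point of the projective line can be moved to the standard one. -/
theorem exists_move_one [Infinite k] (s : Spec (CommRingCat.of k) ⟶ CohB1.ProjSpace 1 k)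
    (hs : s ≫ CohB1.ProjSpace.toSpec 1 k = 𝟙 _) :
    ∃ e : CohB1.ProjSpace 1 k ≅ CohB1.ProjSpace 1 k,
      e.hom ≫ CohB1.ProjSpace.toSpec 1 k = CohB1.ProjSpace.toSpec 1 k ∧ s ≫ e.hom = std k 0 := by
  by_cases h : s = std k 0
  · obtain ⟨e, h1, h2, -⟩ := exists_move_two s (std k 1) hs (std_toSpec 1) (h ▸ std_ne)
    exact ⟨e, h1, h2⟩
  · obtain ⟨e, h1, h2, -⟩ := exists_move_two s (std k 0) hs (std_toSpec 0) h
    exact ⟨e, h1, h2⟩

end K995.P1Pts
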