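import Groth.Agent.EssDim.K995.MgnDesc
import Groth.Agent.EssDim.K995.P1Curve
import Groth.Agent.EssDim.K995.P1Pts
import Mathlib.RingTheory.AlgebraicIndependent.Transcendental

/-!
# The standard pointed projective line and descent of pointed curves isomorphic to it
-/

set_option autoImplicit false
universe u
open CategoryTheory CategoryTheory.Limits AlgebraicGeometry

namespace K995.GenusZeroDesc

open MgnDesc P1Pts Groth.Agent.CohqB.ProjBC

/-- The projective line with (at most two) standard points. -/
theorem isSmoothPtdFam_std {n : ℕ} (hn : n ≤ 2) (K : Type u) [Field K] :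
    CurvSt.IsSmoothPtdFam (CohB1.ProjSpace.toSpec 1 K) (fun i : Fin n => std K (Fin.castLE hn i)) 0 := by
  refine ⟨P1Curve.isCurveOfGenus K, fun i j hij c => ?_⟩
  have key : ∀ a b : Fin 2, a ≠ b → (std K a) c ≠ (std K b) c := by
    intro a b hab
    fin_cases a <;> fin_cases b
    · exact absurd rfl hab
    · exact std_pt_ne c
    · exact (std_pt_ne c).symm
    · exact absurd rfl hab
  exact key _ _ fun h => hij (Fin.castLE_injective hn h)

/-- A pointed curve isomorphic to the standard pointed projective line is defined over an algebraic extension of the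
base field. -/
theorem descLE {n : ℕ} (hn : n ≤ 2) (k : Type u) [Field k] {L : Type u} [Field L] [Algebra k L]
    {C : Scheme.{u}} {f : C ⟶ Spec (CommRingCat.of L)} {s : Fin n → (Spec (CommRingCat.of L) ⟶ C)}
    (e : C ≅ CohB1.ProjSpace 1 L) (he : e.hom ≫ CohB1.ProjSpace.toSpec 1 L = f)
    (hs : ∀ i, s i ≫ e.hom = std L (Fin.castLE hn i)) : DescLE k 0 n 0 f s := by
  refine ⟨⊥, CohB1.ProjSpace 1 (⊥ : IntermediateField k L), CohB1.ProjSpace.toSpec 1 _,
    fun i => std _ (Fin.castLE hn i), e.hom ≫ pmap (algebraMap (⊥ : IntermediateField k L) L) 1, ?_,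
    fun i => std_toSpec _, isSmoothPtdFam_std hn _, ?_, fun i => ?_⟩
  · have : Algebra.IsAlgebraic k (⊥ : IntermediateField k L) :=
      Algebra.IsAlgebraic.of_finite k (⊥ : IntermediateField k L)
    have h0 : Algebra.trdeg k (⊥ : IntermediateField k L) = 0 := trdeg_eq_zero
    rw [h0]
    simp
  · have h1 := isPullback_pmap (algebraMap (⊥ : IntermediateField k L) L) 1
    have h2 : IsPullback e.hom f (CohB1.ProjSpace.toSpec 1 L) (𝟙 _) :=
      IsPullback.of_horiz_isIso ⟨by rw [he, Category.comp_id]⟩
    have h3 := h2.paste_horiz h1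
    rwa [Category.id_comp] at h3
  · rw [← Category.assoc, hs, std_pmap]

end K995.GenusZeroDesc
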