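import Groth.Agent.Lefpen.H720.HomPt
import Groth.Agent.Lefpen.H170.LinAut
import Groth.Agent.CohqB.ProjBC

/-!
# Points of projective space in homogeneous coordinates: linear automorphisms and base change
-/

set_option autoImplicit false
universe u

open CategoryTheory AlgebraicGeometry Limits TopologicalSpace Opposite

namespace K995.ProjPt

open HomogeneousLocalization Groth.Agent.Lefpen.H720.HomPt Groth.Agent.Lefpen.H720.AffPt
open Groth.Agent.VarietyB.ProjHom Groth.Agent.Lefpen.H170.LinAut Groth.Agent.Sga5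
open Groth.Agent.CohqB.ProjBC

section general

variable {A B σ τ : Type u} [CommRing A] [CommRing B] [SetLike σ A] [AddSubgroupClass σ A]
  [SetLike τ B] [AddSubgroupClass τ B] {𝒜 : ℕ → σ} {ℬ : ℕ → τ} [GradedRing 𝒜] [GradedRing ℬ]
  {K : Type u} [CommRing K]

variable (𝒜) in
/-- The point of `Proj` attached to a ring homomorphism inverting the homogeneous element `t`. -/
noncomputable def gpt (g : A →+* K) (t : A) (ht : IsUnit (g t)) {d : ℕ} (htd : t ∈ 𝒜 d) (hd : 0 < d) :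
    Spec (CommRingCat.of K) ⟶ Proj 𝒜 :=
  Spec.map (CommRingCat.ofHom (awayLift 𝒜 g t ht)) ≫ Proj.awayι 𝒜 t htd hd

theorem gpt_indep (g : A →+* K) {t s : A} (ht : IsUnit (g t)) (hs : IsUnit (g s)) {d e : ℕ}
    (htd : t ∈ 𝒜 d) (hd : 0 < d) (hse : s ∈ 𝒜 e) (he : 0 < e) :
    gpt 𝒜 g t ht htd hd = gpt 𝒜 g s hs hse he :=
  SpecMap_awayLift_awayι 𝒜 g ht hs htd hd hse he

theorem gpt_congr {g g' : A →+* K} (h : g = g') {t : A} (ht : IsUnit (g t)) {d : ℕ}
    (htd : t ∈ 𝒜 d) (hd : 0 < d) : gpt 𝒜 g t ht htd hd = gpt 𝒜 g' t (h ▸ ht) htd hd := by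
  subst h; rfl

theorem SpecMap_gpt {K' : Type u} [CommRing K'] (g : A →+* K) {t : A} (ht : IsUnit (g t)) {d : ℕ}
    (htd : t ∈ 𝒜 d) (hd : 0 < d) (ψ : K →+* K') :
    Spec.map (CommRingCat.ofHom ψ) ≫ gpt 𝒜 g t ht htd hd = gpt 𝒜 (ψ.comp g) t (ht.map ψ) htd hd := by
  unfold gpt
  rw [← awayLift_comp 𝒜 g ht htd ψ, CommRingCat.ofHom_comp, Spec.map_comp, Category.assoc]

theorem gpt_map (f : 𝒜 →+*ᵍ ℬ)
    (hf : HomogeneousIdeal.irrelevant ℬ ≤ (HomogeneousIdeal.irrelevant 𝒜).map f) (g : B →+* K) {t : A}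
    (ht : IsUnit (g (f t))) {d : ℕ} (htd : t ∈ 𝒜 d) (hd : 0 < d) :
    gpt ℬ g (f t) ht (f.2 htd) hd ≫ Proj.map f hf =
      gpt 𝒜 (g.comp (f : A →+* B)) t ht htd hd := by
  have h1 : (awayLift ℬ g (f t) ht).comp (Away.map f t) =
      awayLift 𝒜 (g.comp (f : A →+* B)) t ht := by
    apply away_hom_ext 𝒜 htd
    intro n a ha
    rw [RingHom.comp_apply, Away.map_mk]
    exact awayLift_mk ℬ g ht (f.2 htd) n (f a) (f.2 ha)
  unfold gpt
  rw [Category.assoc, Proj.awayι_comp_map, ← h1, CommRingCat.ofHom_comp, Spec.map_comp,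
    Category.assoc]

end general

section ring

variable {N : ℕ} {R K : Type u} [CommRing R] [CommRing K]

/-- The point of `P^N_R` with homogeneous coordinates given by `g`, seen in the chart `D_+(t)`. -/
noncomputable def ppt (g : MvPolynomial (Fin (N + 1)) R →+* K) (t : MvPolynomial (Fin (N + 1)) R)
    (ht : IsUnit (g t)) {d : ℕ} (htd : t ∈ CohB1.polyGrading N R d) (hd : 0 < d) :
    Spec (CommRingCat.of K) ⟶ CohB1.ProjSpace N R :=
  gpt (CohB1.polyGrading N R) g t ht htd hd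

theorem ppt_indep (g : MvPolynomial (Fin (N + 1)) R →+* K) {t s : MvPolynomial (Fin (N + 1)) R}
    (ht : IsUnit (g t)) (hs : IsUnit (g s)) {d e : ℕ}
    (htd : t ∈ CohB1.polyGrading N R d) (hd : 0 < d) (hse : s ∈ CohB1.polyGrading N R e) (he : 0 < e) :
    ppt g t ht htd hd = ppt g s hs hse he :=
  gpt_indep g ht hs htd hd hse he

theorem ppt_congr {g g' : MvPolynomial (Fin (N + 1)) R →+* K} (h : g = g')
    {t : MvPolynomial (Fin (N + 1)) R} (ht : IsUnit (g t)) {d : ℕ}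
    (htd : t ∈ CohB1.polyGrading N R d) (hd : 0 < d) : ppt g t ht htd hd = ppt g' t (h ▸ ht) htd hd := by
  subst h; rfl

theorem SpecMap_ppt {K' : Type u} [CommRing K'] (g : MvPolynomial (Fin (N + 1)) R →+* K)
    {t : MvPolynomial (Fin (N + 1)) R} (ht : IsUnit (g t)) {d : ℕ}
    (htd : t ∈ CohB1.polyGrading N R d) (hd : 0 < d) (ψ : K →+* K') :
    Spec.map (CommRingCat.ofHom ψ) ≫ ppt g t ht htd hd = ppt (ψ.comp g) t (ht.map ψ) htd hd :=
  SpecMap_gpt g ht htd hd ψ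

theorem ppt_pmap {R' : Type u} [CommRing R'] (φ : R →+* R') (g : MvPolynomial (Fin (N + 1)) R' →+* K)
    {t : MvPolynomial (Fin (N + 1)) R} (ht : IsUnit (g (MvPolynomial.map φ t))) {d : ℕ}
    (htd : t ∈ CohB1.polyGrading N R d) (hd : 0 < d)
    (htd' : MvPolynomial.map φ t ∈ CohB1.polyGrading N R' d) :
    ppt g (MvPolynomial.map φ t) ht htd' hd ≫ pmap φ N = ppt (g.comp (MvPolynomial.map φ)) t ht htd hd :=
  gpt_map (gmap φ N) (irrelevant_le φ N) g ht htd hd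

end ring

section field

variable {N : ℕ} {k : Type u} [Field k]

theorem hpt_eq_ppt {i : Fin (N + 1)} {v : Fin (N + 1) → k} (hv : v i ≠ 0) :
    hpt i v = ppt (MvPolynomial.eval v) (MvPolynomial.X i) (isUnit_eval hv)
      (ProjChart.X_mem N k i) Nat.one_pos :=
  hpt_eq_away hv

/-- Base change of a point in homogeneous coordinates. -/
theorem hpt_pmap {L : Type u} [Field L] (φ : k →+* L) {i : Fin (N + 1)} {v : Fin (N + 1) → k}
    (hv : v i ≠ 0) : hpt i (φ ∘ v) ≫ pmap φ N = Spec.map (CommRingCat.ofHom φ) ≫ hpt i v := by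
  have hv' : (φ ∘ v) i ≠ 0 := by simpa using hv
  have hm : MvPolynomial.map φ (MvPolynomial.X i : MvPolynomial (Fin (N + 1)) k) = MvPolynomial.X i := by
    simp
  have hu : IsUnit ((MvPolynomial.eval (φ ∘ v)) (MvPolynomial.map φ (MvPolynomial.X i))) := by
    simpa using hv
  have h1 := ppt_pmap φ (MvPolynomial.eval (φ ∘ v)) hu
    (ProjChart.X_mem N k i) Nat.one_pos (hm.symm ▸ ProjChart.X_mem N L i)
  have h2 : (MvPolynomial.eval (φ ∘ v)).comp (MvPolynomial.map φ : MvPolynomial (Fin (N + 1)) k →+* _) =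
      φ.comp (MvPolynomial.eval v) := by
    apply MvPolynomial.ringHom_ext
    · intro c
      simp
    · intro c
      simp
  rw [hpt_eq_ppt hv, hpt_eq_ppt hv', SpecMap_ppt, ← ppt_congr h2 hu, ← h1]
  congr 1
  exact ppt_indep _ _ _ _ _ _ _

theorem ppt_autHom [Infinite k] {K : Type u} [CommRing K] (M : (Fin (N + 1) → k) ≃ₗ[k] (Fin (N + 1) → k))
    (g : MvPolynomial (Fin (N + 1)) k →+* K) {t : MvPolynomial (Fin (N + 1)) k}
    (ht : IsUnit (g (sub (M : (Fin (N + 1) → k) →ₗ[k] (Fin (N + 1) → k)) t))) {d : ℕ}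
    (htd : t ∈ CohB1.polyGrading N k d) (hd : 0 < d)
    (htd' : sub (M : (Fin (N + 1) → k) →ₗ[k] (Fin (N + 1) → k)) t ∈ CohB1.polyGrading N k d) :
    ppt g (sub (M : (Fin (N + 1) → k) →ₗ[k] (Fin (N + 1) → k)) t) ht htd' hd ≫ autHom M =
      ppt (g.comp (sub (M : (Fin (N + 1) → k) →ₗ[k] (Fin (N + 1) → k)) : _ →+* _)) t ht htd hd :=
  gpt_map (grHom (M : (Fin (N + 1) → k) →ₗ[k] (Fin (N + 1) → k)))
    (ProjSurj.irrelevant_le_map (degSurj M)) g ht htd hd

/-- Linear automorphisms act on points in homogeneous coordinates. -/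
theorem hpt_autHom [Infinite k] (M : (Fin (N + 1) → k) ≃ₗ[k] (Fin (N + 1) → k)) {i j : Fin (N + 1)}
    {v : Fin (N + 1) → k} (hv : v i ≠ 0) (hj : M v j ≠ 0) : hpt i v ≫ autHom M = hpt j (M v) := by
  have h2 : (MvPolynomial.eval v).comp
      (sub (M : (Fin (N + 1) → k) →ₗ[k] (Fin (N + 1) → k)) : MvPolynomial (Fin (N + 1)) k →+* _) =
      MvPolynomial.eval (M v) := by
    apply RingHom.ext
    intro P
    exact eval_sub _ _ _
  have hu : IsUnit ((MvPolynomial.eval v)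
      (sub (M : (Fin (N + 1) → k) →ₗ[k] (Fin (N + 1) → k)) (MvPolynomial.X j))) := by
    rw [eval_sub]
    exact isUnit_eval hj
  have hm : sub (M : (Fin (N + 1) → k) →ₗ[k] (Fin (N + 1) → k)) (MvPolynomial.X j) ∈
      CohB1.polyGrading N k 1 :=
    (MvPolynomial.mem_homogeneousSubmodule _ _).2
      (sub_isHomogeneous _ (MvPolynomial.isHomogeneous_X _ j))
  have h1 := ppt_autHom M (MvPolynomial.eval v) hu (ProjChart.X_mem N k j) Nat.one_pos hm
  rw [hpt_eq_ppt hv, hpt_eq_ppt hj, ← ppt_congr h2 hu, ← h1]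
  congr 1
  exact ppt_indep _ _ _ _ _ _ _

theorem hpt_toSpec (i : Fin (N + 1)) (v : Fin (N + 1) → k) :
    hpt i v ≫ CohB1.ProjSpace.toSpec N k = 𝟙 _ := by
  rw [hpt, apt_toSpec]
  exact Spec.map_id _

/-- Every section is given by homogeneous coordinates. -/
theorem exists_eq_hpt (s : Spec (CommRingCat.of k) ⟶ CohB1.ProjSpace N k)
    (hs : s ≫ CohB1.ProjSpace.toSpec N k = 𝟙 _) :
    ∃ (i : Fin (N + 1)) (v : Fin (N + 1) → k), v i ≠ 0 ∧ s = hpt i v := by
  obtain ⟨j, a, rfl⟩ := exists_eq_apt (K := k) s (hs.trans (Spec.map_id _).symm)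
  refine ⟨j, Fin.insertNth j 1 a, by simp, ?_⟩
  rw [hpt]
  congr 1
  funext l
  simp [aff]

end field

end K995.ProjPt
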