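import Groth.Agent.EssDim.K995.TorsFields

/-!
# Essential dimension of a quotient stack and of the classifying stack
-/

set_option autoImplicit false
set_option linter.style.haveILetI false
universe u
open CategoryTheory CategoryTheory.Limits MonoidalCategory CartesianMonoidalCategory AlgebraicGeometry

namespace K995.QuotEd

open EssDim TorsFields

variable {k : Type u} [Field k] {G X : Over (Spec (CommRingCat.of k))} [GrpObj G] (aX : AlgGrp.Action G X)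
  [FibCat.IsFibGrpd (AlgSt.QuotSt Scheme.fppfPrecoverage G aX).p]
  [FibCat.IsFibGrpd (AlgSt.BG Scheme.fppfPrecoverage G).p]

theorem edStAt_le [LocallyOfFiniteType X.hom] {L : Type u} [Field L] [Algebra k L]
    (x : StkCnt.pts (AlgSt.QuotSt Scheme.fppfPrecoverage G aX) L) :
    (edStAt (AlgSt.QuotSt Scheme.fppfPrecoverage G aX) x : WithBot ℕ∞) ≤
      edSt (AlgSt.BG Scheme.fppfPrecoverage G) + topologicalKrullDim X.left := by
  obtain ⟨⟨base, P, act, π, cart, loc, φ, eqv⟩, h⟩ := x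
  have h' : base = SGA7.pt (K := k) L := h
  subst h'
  let A : AlgSt.QuotObj Scheme.fppfPrecoverage G aX := ⟨SGA7.pt (K := k) L, P, act, π, cart, loc, φ, eqv⟩
  let B : AlgSt.QuotObj Scheme.fppfPrecoverage G (AlgSt.trivAction G) :=
    ⟨SGA7.pt (K := k) L, P, act, π, cart, loc, toUnit P, toUnit_unique _ _⟩
  let β : StkCnt.pts (AlgSt.BG Scheme.fppfPrecoverage G) L := ⟨B, rfl⟩
  -- a field of definition of the torsor
  have hne : Nonempty {K : IntermediateField k L // Descends (Gerb.isoClPsh (AlgSt.BG Scheme.fppfPrecoverage G))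
      (Quot.mk (Gerb.IsoRel (AlgSt.BG Scheme.fppfPrecoverage G) (SGA7.pt (K := k) L)) β) K} := ⟨⟨⊤, descends_top _⟩⟩
  obtain ⟨⟨K₀, hK₀⟩, hmin⟩ : edStAt (AlgSt.BG Scheme.fppfPrecoverage G) β ∈ Set.range _ := ciInf_mem _
  have hmin' : Cardinal.toENat (Algebra.trdeg k K₀) = edStAt (AlgSt.BG Scheme.fppfPrecoverage G) β := hmin
  rw [descends_isoCl_iff] at hK₀
  obtain ⟨⟨A₀, h₀⟩, ψ₀, hψ₀⟩ := hK₀
  obtain ⟨base₀, P₀, act₀, π₀, cart₀, loc₀, φ₀, eqv₀⟩ := A₀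
  have h₀' : base₀ = SGA7.pt (K := k) K₀ := h₀
  subst h₀'
  let A₀ : AlgSt.QuotObj Scheme.fppfPrecoverage G (AlgSt.trivAction G) :=
    ⟨SGA7.pt (K := k) K₀, P₀, act₀, π₀, cart₀, loc₀, φ₀, eqv₀⟩
  change B ⟶ A₀ at ψ₀
  have hb₀ : resPt K₀.val = ψ₀.base :=
    @IsHomLift.eq_of_isHomLift _ _ _ _ (AlgSt.BG Scheme.fppfPrecoverage G).p B A₀ (resPt K₀.val) ψ₀ hψ₀
  have hpb₀ : IsPullback ψ₀.top π π₀ (resPt K₀.val) := by
    rw [hb₀]
    exact ψ₀.cart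
  obtain ⟨K₁, hK, d, hd, htr, hmain⟩ := exists_descent aX K₀ act cart loc₀ hpb₀ eqv
  -- the torsor over the new field
  let e : SGA7.pt (K := k) K₁ ⟶ SGA7.pt (K := k) K₀ := resPt (IntermediateField.inclusion hK)
  obtain ⟨C, ψ, hψ⟩ := FibCat.IsFibGrpd.exists_lift (p := (AlgSt.BG Scheme.fppfPrecoverage G).p) (x := A₀) e
  obtain ⟨baseC, P₁, act₁, π₁, cart₁, loc₁, φ₁, eqv₁⟩ := C
  have hC : baseC = SGA7.pt (K := k) K₁ :=
    @IsHomLift.domain_eq _ _ _ _ (AlgSt.BG Scheme.fppfPrecoverage G).p _ _ _ _ e ψ hψ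
  subst hC
  let C : AlgSt.QuotObj Scheme.fppfPrecoverage G (AlgSt.trivAction G) :=
    ⟨SGA7.pt (K := k) K₁, P₁, act₁, π₁, cart₁, loc₁, φ₁, eqv₁⟩
  change C ⟶ A₀ at ψ
  have hbC : e = ψ.base :=
    @IsHomLift.eq_of_isHomLift _ _ _ _ (AlgSt.BG Scheme.fppfPrecoverage G).p C A₀ e ψ hψ
  have hc : (AlgSt.BG Scheme.fppfPrecoverage G).p.IsStronglyCartesian
      ((AlgSt.BG Scheme.fppfPrecoverage G).p.map ψ) ψ := FibCat.IsFibGrpd.isStronglyCartesian ψ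
  have hcomp : resPt K₁.val ≫ e = resPt K₀.val := resPt_comp_eq _ _ _ fun _ => rfl
  have hlift : (AlgSt.BG Scheme.fppfPrecoverage G).p.IsHomLift
      ((resPt K₁.val : (AlgSt.BG Scheme.fppfPrecoverage G).p.obj B ⟶ (AlgSt.BG Scheme.fppfPrecoverage G).p.obj C) ≫
        (AlgSt.BG Scheme.fppfPrecoverage G).p.map ψ) ψ₀ := by
    have h1 : (resPt K₁.val : (AlgSt.BG Scheme.fppfPrecoverage G).p.obj B ⟶
        (AlgSt.BG Scheme.fppfPrecoverage G).p.obj C) ≫ (AlgSt.BG Scheme.fppfPrecoverage G).p.map ψ =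
        (AlgSt.BG Scheme.fppfPrecoverage G).p.map ψ₀ := by
      change resPt K₁.val ≫ ψ.base = ψ₀.base
      rw [← hbC, ← hb₀, hcomp]
    rw [h1]
    exact IsHomLift.map _ _
  obtain ⟨χ, ⟨hχ, hfac⟩, -⟩ := @Functor.IsStronglyCartesian.universal_property' _ _ _ _
    (AlgSt.BG Scheme.fppfPrecoverage G).p _ _ C A₀ ((AlgSt.BG Scheme.fppfPrecoverage G).p.map ψ) ψ hc B
    (resPt K₁.val : (AlgSt.BG Scheme.fppfPrecoverage G).p.obj B ⟶ (AlgSt.BG Scheme.fppfPrecoverage G).p.obj C) ψ₀ hlift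
  have hbχ : resPt K₁.val = χ.base :=
    @IsHomLift.eq_of_isHomLift _ _ _ _ (AlgSt.BG Scheme.fppfPrecoverage G).p B C (resPt K₁.val) χ hχ
  obtain ⟨f, hf, hfe⟩ := hmain P₁ act₁ π₁ cart₁ χ.top χ.eqv (by rw [hbχ]; exact χ.cart) ψ.top
    (by change IsPullback _ _ _ e; rw [hbC]; exact ψ.cart) (congrArg AlgSt.QuotObj.Hom.top hfac)
  -- the descended object
  let D : AlgSt.QuotObj Scheme.fppfPrecoverage G aX := ⟨SGA7.pt (K := k) K₁, P₁, act₁, π₁, cart₁, loc₁, f, hfe⟩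
  let Φ : A ⟶ D := AlgSt.QuotObj.Hom.mk (A := A) (B := D) χ.base χ.top χ.eqv χ.cart hf
  have hD : Descends (Gerb.isoClPsh (AlgSt.QuotSt Scheme.fppfPrecoverage G aX))
      (Quot.mk (Gerb.IsoRel (AlgSt.QuotSt Scheme.fppfPrecoverage G aX) (SGA7.pt (K := k) L)) ⟨A, rfl⟩) K₁ := by
    rw [descends_isoCl_iff]
    refine ⟨⟨D, rfl⟩, Φ, ?_⟩
    rw [hbχ]
    exact IsHomLift.map (AlgSt.QuotSt Scheme.fppfPrecoverage G aX).p Φ
  have h1 : edStAt (AlgSt.QuotSt Scheme.fppfPrecoverage G aX) ⟨A, rfl⟩ ≤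
      edStAt (AlgSt.BG Scheme.fppfPrecoverage G) β + d := by
    refine (edAt_le_of_descends hD).trans ?_
    rw [← hmin']
    calc Cardinal.toENat (Algebra.trdeg k K₁) ≤ Cardinal.toENat (Algebra.trdeg k K₀ + d) :=
          OrderHomClass.mono Cardinal.toENat htr
      _ = Cardinal.toENat (Algebra.trdeg k K₀) + d := by rw [map_add]; simp
  calc (edStAt (AlgSt.QuotSt Scheme.fppfPrecoverage G aX) ⟨A, rfl⟩ : WithBot ℕ∞) ≤
        ((edStAt (AlgSt.BG Scheme.fppfPrecoverage G) β + d : ℕ∞) : WithBot ℕ∞) := WithBot.coe_le_coe.2 h1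
    _ = (edStAt (AlgSt.BG Scheme.fppfPrecoverage G) β : WithBot ℕ∞) + ((d : ℕ) : WithBot ℕ∞) := rfl
    _ ≤ _ := add_le_add (edAt_le_ed _) hd

theorem edSt_le [LocallyOfFiniteType X.hom] :
    edSt (AlgSt.QuotSt Scheme.fppfPrecoverage G aX) ≤
      edSt (AlgSt.BG Scheme.fppfPrecoverage G) + topologicalKrullDim X.left := by
  refine iSup_le fun L => iSup_le fun _ => iSup_le fun _ => iSup_le fun ξ => ?_
  induction ξ using Quot.ind with
  | mk x => exact edStAt_le aX x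

end K995.QuotEd
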