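import Groth.Agent.EssDim.K995.TorsDesc
import Groth.Agent.EssDim.K995.FieldTr
import Groth.Agent.VarietyB.DimSch
import Groth.Agent.VarietyB.ResMap
import Mathlib.RingTheory.Algebraic.Integral

/-!
# Points of schemes locally of finite type and transcendence degrees
-/

set_option autoImplicit false
set_option linter.style.haveILetI false
universe u
open CategoryTheory CategoryTheory.Limits AlgebraicGeometry

namespace K995.ResPoint

open EssDim TorsDesc

variable {k : Type u} [Field k]

attribute [local instance] Curv2.resAlgebra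

/-- The transcendence degree of a residue field is at most the dimension. -/
theorem exists_trdeg_eq (X : Scheme.{u}) [X.Over (Spec (CommRingCat.of k))]
    [LocallyOfFiniteType (X ↘ Spec (CommRingCat.of k))] (x : X) :
    ∃ d : ℕ, Algebra.trdeg k (X.residueField x) = d ∧ ((d : ℕ) : WithBot ℕ∞) ≤ topologicalKrullDim X := by
  refine ⟨Groth.Agent.VarietyB.DimSch.trd k X x, Groth.Agent.VarietyB.DimSch.trdeg_eq_trd k x, ?_⟩
  refine le_trans ?_ (Groth.Agent.VarietyB.DimTop.localDim_le_dim x)
  rw [Groth.Agent.VarietyB.DimSch.localDim_eq k x]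
  have h : (0 : WithBot ℕ∞) ≤ ringKrullDim (X.presheaf.stalk x) := ringKrullDim_nonneg_of_nontrivial
  calc ((Groth.Agent.VarietyB.DimSch.trd k X x : ℕ) : WithBot ℕ∞) = 0 + (Groth.Agent.VarietyB.DimSch.trd k X x : ℕ) := by
        rw [zero_add]
    _ ≤ _ := by gcongr

/-- A point with values in a field comes from a subfield of transcendence degree at most the dimension. -/
theorem exists_subfield {X : Over (Spec (CommRingCat.of k))} [LocallyOfFiniteType X.hom] {Ω : Type u} [Field Ω]
    [Algebra k Ω] (x : SGA7.pt (K := k) Ω ⟶ X) :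
    ∃ (M : IntermediateField k Ω) (d : ℕ) (x₁ : SGA7.pt (K := k) M ⟶ X), Algebra.trdeg k M = d ∧
      ((d : ℕ) : WithBot ℕ∞) ≤ topologicalKrullDim X.left ∧ x = resPt M.val ≫ x₁ := by
  letI : X.left.Over (Spec (CommRingCat.of k)) := ⟨X.hom⟩
  haveI : LocallyOfFiniteType (X.left ↘ Spec (CommRingCat.of k)) := ‹LocallyOfFiniteType X.hom›
  let pt := x.left (IsLocalRing.closedPoint Ω)
  let r : X.left.residueField pt →+* Ω := (Scheme.descResidueField (Scheme.stalkClosedPointTo x.left)).hom
  have hr : Spec.map (CommRingCat.ofHom r) ≫ X.left.fromSpecResidueField pt = x.left :=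
    Scheme.descResidueField_stalkClosedPointTo_fromSpecResidueField Ω X.left x.left
  obtain ⟨d, hd, hd'⟩ := exists_trdeg_eq (k := k) X.left pt
  have hrk : r.comp (Curv2.resMap k X.left pt) = algebraMap k Ω := by
    have h1 : Spec.map (CommRingCat.ofHom (r.comp (Curv2.resMap k X.left pt))) =
        Spec.map (CommRingCat.ofHom (algebraMap k Ω)) := by
      rw [CommRingCat.ofHom_comp, Spec.map_comp, Groth.Agent.VarietyB.ResMap.specMap_resMap, ← Category.assoc, hr]
      exact Over.w x
    exact congrArg CommRingCat.Hom.hom (Spec.map_injective h1)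
  let ρ : X.left.residueField pt →ₐ[k] Ω := { r with commutes' := fun c => RingHom.congr_fun hrk c }
  let e : X.left.residueField pt ≃ₐ[k] ρ.fieldRange := AlgEquiv.ofInjective ρ ρ.toRingHom.injective
  let x₁ : SGA7.pt (K := k) ρ.fieldRange ⟶ X :=
    Over.homMk (Spec.map (CommRingCat.ofHom (e : X.left.residueField pt →+* ρ.fieldRange)) ≫
      X.left.fromSpecResidueField pt) (by
        have h1 := Groth.Agent.VarietyB.ResMap.specMap_resMap (k := k) X.left pt
        have h2 : (e : X.left.residueField pt →+* ρ.fieldRange).comp (Curv2.resMap k X.left pt) =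
            algebraMap k ρ.fieldRange := RingHom.ext fun c => e.commutes c
        change (_ ≫ _) ≫ (X.left ↘ (Spec (CommRingCat.of k))) = _
        rw [Category.assoc, ← h1, ← Spec.map_comp, ← CommRingCat.ofHom_comp, h2]
        rfl)
  refine ⟨ρ.fieldRange, d, x₁, ?_, hd', ?_⟩
  · rw [← hd]
    exact (AlgEquiv.trdeg_eq e).symm
  · ext1
    change _ = Spec.map _ ≫ Spec.map _ ≫ _
    rw [← Category.assoc, ← Spec.map_comp, ← hr]
    rfl

end K995.ResPoint
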