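import Groth.Agent.EssDim.K995.TorsPt
import Groth.Agent.EssDim.K995.FieldPush
import Groth.Prelude.Def_EssDim

/-!
# Descent of an equivariant map on a torsor to the intersection of two fields
-/

set_option autoImplicit false
set_option linter.style.haveILetI false
universe u
open CategoryTheory CategoryTheory.Limits MonoidalCategory CartesianMonoidalCategory MonObj GrpObj AlgebraicGeometry

namespace K995.TorsDesc

open TorsPt FieldPush FieldInt EssDim

variable {k : Type u} [Field k]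

/-- `Spec L ⟶ Spec K` over `k`. -/
noncomputable abbrev rs (k : Type u) [Field k] (K L : Type u) [Field K] [Field L] [Algebra k K] [Algebra k L]
    [Algebra K L] [IsScalarTower k K L] : SGA7.pt (K := k) L ⟶ SGA7.pt (K := k) K :=
  resPt (IsScalarTower.toAlgHom k K L)

theorem rs_comp (K L M : Type u) [Field K] [Field L] [Field M] [Algebra k K] [Algebra k L] [Algebra k M]
    [Algebra K L] [Algebra L M] [Algebra K M] [IsScalarTower k K L] [IsScalarTower k L M] [IsScalarTower k K M]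
    [IsScalarTower K L M] : rs k L M ≫ rs k K L = rs k K M := by
  rw [← resPt_comp]
  congr 1
  ext x
  exact (IsScalarTower.algebraMap_apply K L M x).symm

section

variable {G : Over (Spec (CommRingCat.of k))} [GrpObj G] {X : Over (Spec (CommRingCat.of k))}
  (aX : AlgGrp.Action G X)
  {F L E Ω : Type u} [Field F] [Field L] [Field E] [Field Ω] [Algebra k F] [Algebra k L] [Algebra k E] [Algebra k Ω]
  [Algebra F L] [Algebra F E] [Algebra F Ω] [Algebra L Ω] [Algebra E Ω]
  [IsScalarTower k F L] [IsScalarTower k F E] [IsScalarTower k F Ω] [IsScalarTower k L Ω] [IsScalarTower k E Ω]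
  [IsScalarTower F L Ω] [IsScalarTower F E Ω]

theorem flat_top {P P₁ : Over (Spec (CommRingCat.of k))} {π₁ : P₁ ⟶ SGA7.pt (K := k) F} {π : P ⟶ SGA7.pt (K := k) L}
    {top : P ⟶ P₁} (hpb : IsPullback top π π₁ (rs k F L)) : Flat top.left ∧ Surjective top.left := by
  have h := hpb.map (Over.forget _)
  exact ⟨MorphismProperty.of_isPullback h.flip (flat_field F L),
    MorphismProperty.of_isPullback h.flip (surjective_field F L)⟩

theorem exists_chi (hI : IntEq F L E Ω) {P P₁ : Over (Spec (CommRingCat.of k))} (act : AlgGrp.Action G P)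
    (act₁ : AlgGrp.Action G P₁) {π₁ : P₁ ⟶ SGA7.pt (K := k) F} {π : P ⟶ SGA7.pt (K := k) L}
    (cart : IsPullback act.act (snd G P) π π) (cart₁ : IsPullback act₁.act (snd G P₁) π₁ π₁)
    {top : P ⟶ P₁} (htop : act.act ≫ top = (G ◁ top) ≫ act₁.act) (hpb : IsPullback top π π₁ (rs k F L))
    {φ : P ⟶ X} (hφ : act.act ≫ φ = (G ◁ φ) ≫ aX.act)
    (y₁ : SGA7.pt (K := k) E ⟶ P₁) (hy₁ : y₁ ≫ π₁ = rs k F E) (x₁ : SGA7.pt (K := k) E ⟶ X)
    {y : SGA7.pt (K := k) Ω ⟶ P} (hy : y ≫ π = rs k L Ω) (hry : y ≫ top = rs k E Ω ≫ y₁)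
    (hrx : y ≫ φ = rs k E Ω ≫ x₁) :
    ∃ χ : P₁ ⟶ X, top ≫ χ = φ ∧ act₁.act ≫ χ = (G ◁ χ) ≫ aX.act := by
  let Z := pullback π₁ (rs k F E)
  let p : Z ⟶ P₁ := pullback.fst _ _
  let t : Z ⟶ SGA7.pt (K := k) E := pullback.snd _ _
  have hZ : IsPullback p t π₁ (rs k F E) := IsPullback.of_hasPullback _ _
  have h : p ≫ π₁ = (t ≫ y₁) ≫ π₁ := by rw [Category.assoc, hy₁, hZ.w]
  let ψ : Z ⟶ X := psi aX act₁ cart₁ p t y₁ x₁ h
  let Z' := pullback π₁ (rs k F Ω)
  let z : Z' ⟶ P₁ := pullback.fst _ _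
  let c : Z' ⟶ SGA7.pt (K := k) Ω := pullback.snd _ _
  have hZ' : IsPullback z c π₁ (rs k F Ω) := IsPullback.of_hasPullback _ _
  have hwa : z ≫ π₁ = (c ≫ rs k L Ω) ≫ rs k F L := by rw [Category.assoc, rs_comp, hZ'.w]
  have hwd : z ≫ π₁ = (c ≫ rs k E Ω) ≫ rs k F E := by rw [Category.assoc, rs_comp, hZ'.w]
  let a : Z' ⟶ P := hpb.lift z (c ≫ rs k L Ω) hwa
  let d : Z' ⟶ Z := hZ.lift z (c ≫ rs k E Ω) hwd
  have ha1 : a ≫ top = z := hpb.lift_fst _ _ _
  have ha2 : a ≫ π = c ≫ rs k L Ω := hpb.lift_snd _ _ _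
  have hd1 : d ≫ p = z := hZ.lift_fst _ _ _
  have hd2 : d ≫ t = c ≫ rs k E Ω := hZ.lift_snd _ _ _
  have key : a ≫ φ = d ≫ ψ := comp_psi aX act₁ cart₁ p t y₁ x₁ h act cart htop hpb hφ hy hry hrx
    (ha1.trans hd1.symm) ha2 hd2
  have hA : IsPullback a c π (rs k L Ω) := by
    refine IsPullback.of_right ?_ ha2 hpb
    rw [ha1, rs_comp]
    exact hZ'
  have hD : IsPullback d c t (rs k E Ω) := by
    refine IsPullback.of_right ?_ hd2 hZ
    rw [hd1, rs_comp]
    exact hZ'
  obtain ⟨χ, hχ⟩ : ∃ χ : P₁.left ⟶ X.left, top.left ≫ χ = φ.left := exists_factor hI (hpb.map (Over.forget _)) (hZ.map (Over.forget _)) (hA.map (Over.forget _))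
    (hD.map (Over.forget _)) (congrArg CommaMorphism.left (ha1.trans hd1.symm)) φ.left ψ.left
    (congrArg CommaMorphism.left key)
  obtain ⟨hf, hs⟩ := flat_top hpb
  have hepi : Epi top.left := Flat.epi_of_flat_of_surjective _
  have hw : χ ≫ X.hom = P₁.hom := by
    rw [← cancel_epi top.left, ← Category.assoc]
    rw [hχ, Over.w, Over.w]
  refine ⟨Over.homMk χ hw, ?_, ?_⟩
  · ext1
    exact hχ
  · have h2 : IsPullback (G ◁ top) (snd G P) (snd G P₁) top := AlgSt.isPullback_whiskerLeft top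
    have h3 := h2.map (Over.forget _)
    have : Flat (G ◁ top).left := MorphismProperty.of_isPullback h3.flip hf
    have : Surjective (G ◁ top).left := MorphismProperty.of_isPullback h3.flip hs
    have : Epi (G ◁ top).left := Flat.epi_of_flat_of_surjective _
    have : Epi (G ◁ top) := Over.epi_of_epi_left _
    refine eqv_of_epi aX htop hφ ?_
    ext1
    exact hχ

end

end K995.TorsDesc
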