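import Groth.Agent.EssDim.K995.ResPoint
import Groth.Agent.Fga.HenselDVR

/-!
# The fields in the descent of an equivariant map
-/

set_option autoImplicit false
set_option linter.style.haveILetI false
universe u
open CategoryTheory CategoryTheory.Limits MonoidalCategory CartesianMonoidalCategory AlgebraicGeometry

namespace K995.TorsFields

open EssDim TorsDesc ResPoint FieldInt

section fields

variable {k L Ω : Type u} [Field k] [Field L] [Field Ω] [Algebra k L] [Algebra k Ω] [Algebra L Ω]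
  [IsScalarTower k L Ω]

theorem trdeg_sup_le (E₀ M : IntermediateField k Ω) :
    Algebra.trdeg k ↥(E₀ ⊔ M) ≤ Algebra.trdeg k E₀ + Algebra.trdeg k M := by
  have h : E₀ ⊔ M = (IntermediateField.adjoin E₀ (M : Set Ω)).restrictScalars k := by
    rw [IntermediateField.restrictScalars_adjoin_eq_sup, IntermediateField.adjoin_self]
  rw [h, FieldTr.trdeg_restrictScalars]
  gcongr
  exact FieldTr.trdeg_adjoin_le M

/-- The intersection of `L` with a subfield of `Ω`. -/
noncomputable abbrev cut (L : Type u) [Field L] [Algebra k L] [Algebra L Ω] [IsScalarTower k L Ω]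
    (E : IntermediateField k Ω) : IntermediateField k L :=
  E.comap (IsScalarTower.toAlgHom k L Ω)

/-- The inclusion of the intersection. -/
noncomputable def cutMap (E : IntermediateField k Ω) : cut L E →ₐ[k] E :=
  ((IsScalarTower.toAlgHom k L Ω).comp (cut L E).val).codRestrict E.toSubalgebra fun x => x.2

theorem cutMap_coe (E : IntermediateField k Ω) (x : cut L E) :
    ((cutMap E x : E) : Ω) = algebraMap L Ω x := rfl

theorem trdeg_cut_le (E : IntermediateField k Ω) : Algebra.trdeg k (cut L E) ≤ Algebra.trdeg k E :=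
  trdeg_le_of_injective (cutMap E) (cutMap E).toRingHom.injective

end fields

/-- A locally trivial object over the spectrum of a field has a point over a finite extension. -/
theorem exists_point {K : Type u} [Field K] (Y : Over (Spec (CommRingCat.of K)))
    (h : NonAbH1.IsLocallyTrivialFor Scheme.fppfPrecoverage Y) :
    ∃ (E : Type u) (_ : Field E) (_ : Algebra K E) (_ : FiniteDimensional K E)
      (q : Spec (CommRingCat.of E) ⟶ Y.left), q ≫ Y.hom = Spec.map (CommRingCat.ofHom (algebraMap K E)) := by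
  obtain ⟨R, hR, hs⟩ := h
  obtain ⟨hR1, hR2⟩ := hR
  obtain ⟨S', f, hf, z, -⟩ := (Presieve.mem_comap_jointlySurjectivePrecoverage_iff Scheme.forget).1 hR1 (IsLocalRing.closedPoint K)
  have hP : LocallyOfFinitePresentation f := (hR2 hf).2
  have : Nonempty S' := ⟨z⟩
  obtain ⟨E, _, _, _, q, hq⟩ := Groth.Agent.Fga.HenselDVR.exists_finite_point f
  obtain ⟨σ, hσ⟩ := hs f hf
  exact ⟨E, inferInstance, inferInstance, inferInstance, q ≫ σ, by rw [Category.assoc, hσ, hq]⟩

theorem resPt_comp_eq {k K L M : Type u} [Field k] [Field K] [Field L] [Field M] [Algebra k K] [Algebra k L] [Algebra k M]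
    (f : K →ₐ[k] L) (g : L →ₐ[k] M) (h : K →ₐ[k] M) (hc : ∀ x, g (f x) = h x) : resPt g ≫ resPt f = resPt h := by
  rw [← resPt_comp]
  congr 1
  ext x
  exact hc x

section main

variable {k : Type u} [Field k] {G X : Over (Spec (CommRingCat.of k))} [GrpObj G] (aX : AlgGrp.Action G X)
  [LocallyOfFiniteType X.hom] {L : Type u} [Field L] [Algebra k L]

theorem exists_descent (K₀ : IntermediateField k L) {P P₀ : Over (Spec (CommRingCat.of k))}
    (act : AlgGrp.Action G P) {π : P ⟶ SGA7.pt (K := k) L}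
    {π₀ : P₀ ⟶ SGA7.pt (K := k) K₀} (cart : IsPullback act.act (snd G P) π π)
    (loc₀ : NonAbH1.IsLocallyTrivialFor Scheme.fppfPrecoverage (Over.mk π₀.left : Over (SGA7.pt (K := k) K₀).left))
    {top₀ : P ⟶ P₀} (hpb₀ : IsPullback top₀ π π₀ (resPt K₀.val)) {φ : P ⟶ X}
    (hφ : act.act ≫ φ = (G ◁ φ) ≫ aX.act) :
    ∃ (K₁ : IntermediateField k L) (hK : K₀ ≤ K₁) (d : ℕ), ((d : ℕ) : WithBot ℕ∞) ≤ topologicalKrullDim X.left ∧
      Algebra.trdeg k K₁ ≤ Algebra.trdeg k K₀ + d ∧
        ∀ (P₁ : Over (Spec (CommRingCat.of k))) (act₁ : AlgGrp.Action G P₁) (π₁ : P₁ ⟶ SGA7.pt (K := k) K₁)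
          (_ : IsPullback act₁.act (snd G P₁) π₁ π₁) (top₁ : P ⟶ P₁) (_ : act.act ≫ top₁ = (G ◁ top₁) ≫ act₁.act)
          (_ : IsPullback top₁ π π₁ (resPt K₁.val)) (u : P₁ ⟶ P₀)
          (_ : IsPullback u π₁ π₀ (resPt (IntermediateField.inclusion hK))) (_ : top₁ ≫ u = top₀),
          ∃ χ : P₁ ⟶ X, top₁ ≫ χ = φ ∧ act₁.act ≫ χ = (G ◁ χ) ≫ aX.act := by
  obtain ⟨E, _, _, _, q, hq⟩ := exists_point _ loc₀
  change Spec (CommRingCat.of E) ⟶ P₀.left at q
  change q ≫ π₀.left = _ at hq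
  letI : Algebra k E := ((algebraMap K₀ E).comp (algebraMap k K₀)).toAlgebra
  haveI : IsScalarTower k K₀ E := IsScalarTower.of_algebraMap_eq fun _ => rfl
  let Ω := AlgebraicClosure L
  let j : E →ₐ[K₀] Ω := IsAlgClosed.lift
  let jk : E →ₐ[k] Ω := j.restrictScalars k
  have hj : ∀ a : K₀, jk (algebraMap K₀ E a) = algebraMap L Ω a := fun a => j.commutes a
  let E₀ : IntermediateField k Ω := jk.fieldRange
  let e₀ : E ≃ₐ[k] E₀ := AlgEquiv.ofInjective jk jk.toRingHom.injective
  -- the points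
  let yE : SGA7.pt (K := k) E ⟶ P₀ := Over.homMk q (by
    rw [← Over.w π₀, ← Category.assoc, hq]
    exact (Spec.map_comp _ _).symm)
  have hyE : yE ≫ π₀ = resPt (IsScalarTower.toAlgHom k K₀ E) := by
    ext1
    exact hq
  have hw : (resPt jk ≫ yE) ≫ π₀ = rs k L Ω ≫ resPt K₀.val := by
    rw [Category.assoc, hyE, ← resPt_comp, ← resPt_comp]
    congr 1
    ext a
    exact hj a
  let y : SGA7.pt (K := k) Ω ⟶ P := hpb₀.lift _ _ hw
  have hy1 : y ≫ top₀ = resPt jk ≫ yE := hpb₀.lift_fst _ _ _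
  have hy2 : y ≫ π = rs k L Ω := hpb₀.lift_snd _ _ _
  obtain ⟨M, d, xM, hM, hd, hxM⟩ := exists_subfield (y ≫ φ)
  let E₁ : IntermediateField k Ω := E₀ ⊔ M
  let K₁ : IntermediateField k L := cut L E₁
  have hK : K₀ ≤ K₁ := fun a ha => by
    change algebraMap L Ω a ∈ E₁
    rw [← hj ⟨a, ha⟩]
    exact (le_sup_left : E₀ ≤ E₁) ⟨_, rfl⟩
  refine ⟨K₁, hK, d, hd, ?_, ?_⟩
  · refine (trdeg_cut_le E₁).trans ((trdeg_sup_le E₀ M).trans ?_)
    rw [hM]
    gcongr
    rw [← e₀.trdeg_eq]
    have h1 : Algebra.trdeg K₀ E = 0 := by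
      have : Algebra.IsAlgebraic K₀ E := inferInstance
      exact trdeg_eq_zero
    have h2 := trdeg_add_eq k K₀ (A := E)
    rw [h1, add_zero] at h2
    exact h2.ge
  · intro P₁ act₁ π₁ cart₁ top₁ htop₁ hpb₁ u hu htu
    letI : Algebra K₁ E₁ := (cutMap E₁).toRingHom.toAlgebra
    haveI : IsScalarTower k K₁ E₁ := IsScalarTower.of_algebraMap_eq fun c => ((cutMap E₁).commutes c).symm
    haveI : IsScalarTower K₁ E₁ Ω := IsScalarTower.of_algebraMap_eq fun _ => rfl
    have hI : IntEq K₁ L E₁ Ω := fun a b hab => ⟨⟨a, by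
      change algebraMap L Ω a ∈ E₁
      rw [hab]
      exact b.2⟩, rfl⟩
    let f : E →ₐ[k] E₁ := (IntermediateField.inclusion (le_sup_left : E₀ ≤ E₁)).comp e₀.toAlgHom
    have hw1 : (resPt f ≫ yE) ≫ π₀ = rs k K₁ E₁ ≫ resPt (IntermediateField.inclusion hK) := by
      rw [Category.assoc, hyE, ← resPt_comp, ← resPt_comp]
      congr 1
      ext a
      exact hj a
    let y₁ : SGA7.pt (K := k) E₁ ⟶ P₁ := hu.lift _ _ hw1
    have hy11 : y₁ ≫ u = resPt f ≫ yE := hu.lift_fst _ _ _
    have hy12 : y₁ ≫ π₁ = rs k K₁ E₁ := hu.lift_snd _ _ _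
    refine exists_chi aX hI act act₁ cart cart₁ htop₁ hpb₁ hφ y₁ hy12
      (resPt (IntermediateField.inclusion (le_sup_right : M ≤ E₁)) ≫ xM) hy2 ?_ ?_
    · apply hu.hom_ext
      · rw [Category.assoc, htu, hy1, Category.assoc, hy11, ← Category.assoc]
        congr 1
        exact (resPt_comp_eq _ _ _ fun _ => rfl).symm
      · rw [Category.assoc, hpb₁.w, Category.assoc, hy12, ← Category.assoc, hy2, ← resPt_comp, ← resPt_comp]
        rfl
    · rw [hxM, ← Category.assoc]
      congr 1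
      exact (resPt_comp_eq _ _ _ fun _ => rfl).symm

end main

end K995.TorsFields
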