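import Groth.Prelude.Def_AlgSt5

/-!
# Equivariant maps on torsors with a rational point

* `psi`: a point `y₁` of a pseudo-torsor `P₀` over `T₁` and a point `x₁` of `X` over `T₁` give `P₀ ×_{B₀} T₁ ⟶ X`,
  `g y₁ ↦ g x₁`.
* `comp_psi`: compatibility with an equivariant map sending `y₁` to `x₁`.
* `eqv_of_epi`: descent of equivariance along an epimorphism.
-/

set_option autoImplicit false
universe u
open CategoryTheory CategoryTheory.Limits MonoidalCategory CartesianMonoidalCategory MonObj GrpObj AlgebraicGeometry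

namespace K995.TorsPt

variable {S : Scheme.{u}} {G : Over S} [GrpObj G] {X : Over S} (aX : AlgGrp.Action G X)

section

variable {P₀ B₀ : Over S} (act₀ : AlgGrp.Action G P₀) {π₀ : P₀ ⟶ B₀}
  (cart₀ : IsPullback act₀.act (snd G P₀) π₀ π₀) {T₁ Z : Over S} (p : Z ⟶ P₀) (t : Z ⟶ T₁) (y₁ : T₁ ⟶ P₀)
  (x₁ : T₁ ⟶ X) (h : p ≫ π₀ = (t ≫ y₁) ≫ π₀)

/-- The map `g y₁ ↦ g x₁`. -/
noncomputable def psi : Z ⟶ X := lift (cart₀.lift p (t ≫ y₁) h ≫ fst G P₀) (t ≫ x₁) ≫ aX.act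

variable {P B : Over S} (act : AlgGrp.Action G P) {π : P ⟶ B} (cart : IsPullback act.act (snd G P) π π)
  {top : P ⟶ P₀} {b : B ⟶ B₀} (htop : act.act ≫ top = (G ◁ top) ≫ act₀.act) (hpb : IsPullback top π π₀ b)
  {φ : P ⟶ X} (hφ : act.act ≫ φ = (G ◁ φ) ≫ aX.act)
  {T : Over S} {s : T ⟶ B} {y : T ⟶ P} (hy : y ≫ π = s) {r : T ⟶ T₁} (hry : y ≫ top = r ≫ y₁)
  (hrx : y ≫ φ = r ≫ x₁) {Z' : Over S} {a : Z' ⟶ P} {c : Z' ⟶ T} {d : Z' ⟶ Z} (h1 : a ≫ top = d ≫ p)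
  (h2 : a ≫ π = c ≫ s) (h3 : d ≫ t = c ≫ r)

include cart htop hpb hφ hy hry hrx h1 h2 h3 in
theorem comp_psi : a ≫ φ = d ≫ psi aX act₀ cart₀ p t y₁ x₁ h := by
  set m := cart₀.lift p (t ≫ y₁) h with hm
  have hm1 : m ≫ act₀.act = p := cart₀.lift_fst _ _ _
  have hm2 : m ≫ snd G P₀ = t ≫ y₁ := cart₀.lift_snd _ _ _
  have key : a = lift ((d ≫ m) ≫ fst G P₀) (c ≫ y) ≫ act.act := by
    apply hpb.hom_ext
    · have h4 : lift ((d ≫ m) ≫ fst G P₀) (c ≫ y) ≫ (G ◁ top) = d ≫ m := by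
        apply CartesianMonoidalCategory.hom_ext
        · rw [Category.assoc, whiskerLeft_fst, lift_fst]
        · rw [Category.assoc, whiskerLeft_snd, lift_snd_assoc, Category.assoc, Category.assoc, hm2, hry,
            ← Category.assoc, ← h3, Category.assoc]
      rw [Category.assoc, htop, ← Category.assoc, h4, Category.assoc, hm1, h1]
    · rw [Category.assoc, cart.w, lift_snd_assoc, h2, Category.assoc, hy]
  have h5 : lift ((d ≫ m) ≫ fst G P₀) (c ≫ y) ≫ (G ◁ φ) = d ≫ lift (m ≫ fst G P₀) (t ≫ x₁) := by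
    apply CartesianMonoidalCategory.hom_ext
    · rw [Category.assoc, whiskerLeft_fst, lift_fst, Category.assoc, Category.assoc, lift_fst]
    · rw [Category.assoc, whiskerLeft_snd, lift_snd_assoc, Category.assoc, Category.assoc, lift_snd, hrx,
        ← Category.assoc, ← h3, Category.assoc]
  calc a ≫ φ = lift ((d ≫ m) ≫ fst G P₀) (c ≫ y) ≫ act.act ≫ φ := by rw [← Category.assoc, ← key]
    _ = d ≫ psi aX act₀ cart₀ p t y₁ x₁ h := by
        rw [hφ, ← Category.assoc, h5, Category.assoc]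
        rfl

end

theorem eqv_of_epi {P P₁ : Over S} {act : AlgGrp.Action G P} {act₁ : AlgGrp.Action G P₁} {φ : P ⟶ X} {χ : P₁ ⟶ X}
    {top : P ⟶ P₁} (htop : act.act ≫ top = (G ◁ top) ≫ act₁.act) (hφ : act.act ≫ φ = (G ◁ φ) ≫ aX.act)
    (hχ : top ≫ χ = φ) [Epi (G ◁ top)] : act₁.act ≫ χ = (G ◁ χ) ≫ aX.act := by
  rw [← cancel_epi (G ◁ top), ← Category.assoc, ← htop, Category.assoc, hχ, hφ, ← hχ,
    MonoidalCategory.whiskerLeft_comp, Category.assoc]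

end K995.TorsPt
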